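import Mathlib
import Groth.Prelude.Def_ARSys

set_option autoImplicit false
universe u v₁ u₁
open CategoryTheory CategoryTheory.Limits AlgebraicGeometry Opposite

namespace Groth.Agent.H1.ARNull_S

/-- the shift functor `k ↦ n + k` on `ℕ`. -/
def sh (n : ℕ) : ℕ ⥤ ℕ :=
  Monotone.functor (f := fun k => n + k) (fun _ _ h => Nat.add_le_add_left h n)

theorem isZero_obj_of_isZero_limit (Λ : Type (u + 1)) [CommRing Λ]
    (Y : ℕᵒᵖ ⥤ ModuleCat.{u + 1} Λ)
    (hepi : ∀ (n m : ℕ) (h : n ≤ m), Epi (ARSys.tr Y h)) (h0 : IsZero (limit Y)) (n : ℕ) :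
    IsZero (Y.obj (op n)) := by
  classical
  let Z : ℕᵒᵖ ⥤ ModuleCat.{u + 1} Λ := (sh n).op ⋙ Y
  have hsurj : ∀ k, Function.Surjective (Z.map (homOfLE (Nat.le_succ k)).op) := by
    intro k
    have h1 : Epi (ARSys.tr Y (Nat.add_le_add_left (Nat.le_succ k) n)) := hepi _ _ _
    exact (ModuleCat.epi_iff_surjective _).1 h1
  have hs0 := Concrete.surjective_π_app_zero_of_surjective_map (limit.isLimit Z) hsurj
  -- the cone over `Y` with point `limit Z`
  let c : Cone Y :=
    { pt := limit Z
      π :=
        { app := fun k => limit.π Z k ≫ Y.map (homOfLE (Nat.le_add_left k.unop n)).op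
          naturality := by
            intro k k' f
            simp only [Functor.const_obj_obj, Functor.const_obj_map, Category.id_comp,
              Category.assoc]
            rw [← limit.w Z f, Category.assoc]
            congr 1
            change Y.map ((sh n).op.map f) ≫ _ = _
            rw [← Y.map_comp, ← Y.map_comp]
            exact congrArg Y.map (Subsingleton.elim _ _) } }
  have hφ : limit.lift Y c = 0 := h0.eq_of_tgt _ _
  have hc : ∀ k, c.π.app k = 0 := by
    intro k
    rw [← limit.lift_π c k, hφ, zero_comp]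
  have hπ0 : limit.π Z (op 0) = 0 := by
    rw [← limit.w Z (homOfLE (Nat.zero_le n)).op]
    have := hc (op n)
    change limit.π Z (op n) ≫ Y.map _ = 0 at this
    change limit.π Z (op n) ≫ Y.map ((sh n).op.map (homOfLE (Nat.zero_le n)).op) = 0
    refine Eq.trans ?_ this
    exact congrArg (fun t => limit.π Z (op n) ≫ Y.map t) (Subsingleton.elim _ _)
  haveI : Subsingleton (Y.obj (op n)) := by
    refine ⟨fun a b => ?_⟩
    have key : ∀ a : Y.obj (op n), a = 0 := by
      intro a
      obtain ⟨x, hx⟩ := hs0 a
      have : (limit.π Z (op 0)) x = a := hx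
      rw [← this, hπ0]
      rfl
    rw [key a, key b]
  exact ModuleCat.isZero_of_subsingleton _

end Groth.Agent.H1.ARNull_S
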