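import Groth.Agent.S0082
import Mathlib.AlgebraicGeometry.Morphisms.Descent
import Mathlib.AlgebraicGeometry.Morphisms.FlatDescent

set_option autoImplicit false
open CategoryTheory CategoryTheory.Limits AlgebraicGeometry Opposite
universe u

namespace Groth.Agent.H1

set_option backward.isDefEq.respectTransparency.types false in
/-- Variant of `HasAffineProperty.descendsAlong_of_affineAnd` for fpqc covers, using descent of
affine morphisms. -/
theorem descendsAlong_fpqc_of_affineAnd {P : MorphismProperty Scheme.{u}}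
    [P.IsStableUnderBaseChange]
    {Q : ∀ {R S : Type u} [CommRing R] [CommRing S], (R →+* S) → Prop}
    (hP : HasAffineProperty P (affineAnd Q)) (hQ : RingHom.RespectsIso Q)
    (hQQ' : RingHom.CodescendsAlong Q RingHom.FaithfullyFlat) :
    P.DescendsAlong (@Surjective ⊓ @Flat ⊓ @QuasiCompact : MorphismProperty Scheme.{u}) := by
  have H₁ : (@IsLocalIso ⊓ @Surjective : MorphismProperty Scheme.{u}) ≤
      (@Surjective ⊓ @Flat : MorphismProperty Scheme.{u}) := by
    rw [inf_comm]
    gcongr
    exact IsLocalIso.le_of_isZariskiLocalAtSource @Flat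
  have H₂ : ∀ {R S : CommRingCat.{u}} {f : R ⟶ S},
      (@Surjective ⊓ @Flat : MorphismProperty Scheme.{u}) (Spec.map f) →
        RingHom.FaithfullyFlat f.hom := by
    intro R S f ⟨hf₁, hf₂⟩
    rw [RingHom.FaithfullyFlat.iff_flat_and_comap_surjective]
    refine ⟨?_, (Spec.map f).surjective⟩
    rwa [HasRingHomProperty.Spec_iff (P := @Flat)] at hf₂
  have hdesc := Groth.Agent.S0082.result.{u}
  apply IsZariskiLocalAtTarget.descendsAlong_inf_quasiCompact _ _ H₁
  introv h hf
  have : IsAffine Y := by
    convert! isAffine_of_isAffineHom g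
    exact MorphismProperty.of_pullback_fst_of_descendsAlong
      (Q := (@Surjective ⊓ @Flat ⊓ @QuasiCompact : MorphismProperty Scheme.{u}))
      ⟨h, inferInstance⟩ <|
      AlgebraicGeometry.HasAffineProperty.affineAnd_le_isAffineHom P inferInstance _ hf
  wlog hY : ∃ S, Y = Spec S generalizing Y
  · rw [← P.cancel_left_of_respectsIso Y.isoSpec.inv]
    have heq : pullback.fst (Spec.map φ) (Y.isoSpec.inv ≫ g) =
        pullback.map _ _ _ _ (𝟙 _) (Y.isoSpec.inv) (𝟙 _) (by simp) (by simp) ≫
          pullback.fst (Spec.map φ) g := (pullback.lift_fst _ _ _).symm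
    refine this _ ?_ inferInstance ⟨_, rfl⟩
    rwa [heq, P.cancel_left_of_respectsIso]
  obtain ⟨Y, rfl⟩ := hY
  apply of_pullback_fst_Spec_of_codescendsAlong _ _ hQQ' H₂ _ h hf
  simp [HasAffineProperty.SpecMap_iff_of_affineAnd _ hQ]

end Groth.Agent.H1
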