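import Mathlib.AlgebraicGeometry.Morphisms.FlatDescent
import Mathlib.AlgebraicGeometry.Morphisms.Flat
import Mathlib.AlgebraicGeometry.Morphisms.Affine
import Mathlib.AlgebraicGeometry.Morphisms.QuasiSeparated
import Groth.Agent.S0080

set_option autoImplicit false
open CategoryTheory CategoryTheory.Limits AlgebraicGeometry Opposite
universe u

namespace Groth.Agent.H1

theorem isPullback_SpecMap_appTop_of_flat {X Y S T : Scheme.{u}} {f : T ⟶ S} {g : Y ⟶ X}
    {iX : X ⟶ S} {iY : Y ⟶ T} (H : IsPullback g iY iX f) [Flat f] [IsAffine S] [IsAffine T]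
    [CompactSpace X] [QuasiSeparatedSpace X] :
    IsPullback (Spec.map g.appTop) (Spec.map iY.appTop) (Spec.map iX.appTop) (Spec.map f.appTop) := by
  have hiso : IsIso (pushoutSection H (US := ⊤) (UT := ⊤) (UX := ⊤) (UY := ⊤) le_top le_top
      (by simp)) :=
    isIso_pushoutSection_of_isQuasiSeparated_of_flat_right H _ _ _ (isAffineOpen_top _)
      (isAffineOpen_top _) isCompact_univ isQuasiSeparated_univ
  have hpo := (isIso_pushoutSection_iff ..).mp hiso
  have hpb := hpo.op.map Scheme.Spec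
  have e : ∀ {A B : Scheme.{u}} (h : A ⟶ B) (hle : (⊤ : A.Opens) ≤ h ⁻¹ᵁ ⊤),
      Scheme.Spec.map (h.appLE ⊤ ⊤ hle).op = Spec.map h.appTop := by
    intro A B h hle
    rw [Scheme.Hom.appTop, Scheme.Hom.app_eq_appLE]
    rfl
  simpa only [e] using hpb.flip

theorem isPullback_toSpecΓ_of_flat {X Y S T : Scheme.{u}} {f : T ⟶ S} {g : Y ⟶ X}
    {iX : X ⟶ S} {iY : Y ⟶ T} (H : IsPullback g iY iX f) [Flat f] [IsAffine S] [IsAffine T]
    [CompactSpace X] [QuasiSeparatedSpace X] :
    IsPullback g Y.toSpecΓ X.toSpecΓ (Spec.map g.appTop) := by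
  refine IsPullback.of_bot ?_ (Scheme.toSpecΓ_naturality g) (isPullback_SpecMap_appTop_of_flat H)
  rw [← Scheme.toSpecΓ_naturality, ← Scheme.toSpecΓ_naturality]
  exact H.paste_vert (IsPullback.of_vert_isIso ⟨Scheme.toSpecΓ_naturality f⟩)

/-- Affineness descends along a faithfully flat morphism of affine schemes. -/
theorem isAffine_of_isPullback_of_flat_of_surjective {X Y S T : Scheme.{u}} {f : T ⟶ S} {g : Y ⟶ X}
    {iX : X ⟶ S} {iY : Y ⟶ T} (H : IsPullback g iY iX f) [Flat f] [Surjective f] [IsAffine S]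
    [IsAffine T] [IsAffine Y] : IsAffine X := by
  have hfQ : (@Surjective ⊓ @Flat ⊓ @QuasiCompact : MorphismProperty Scheme.{u}) f :=
    ⟨⟨‹_›, ‹_›⟩, inferInstance⟩
  have hg : Surjective g := MorphismProperty.of_isPullback (P := @Surjective) H.flip ‹Surjective f›
  have : CompactSpace X := hg.surj.compactSpace g.continuous
  have hqs : QuasiSeparated iX :=
    have := Groth.Agent.S0080.result.{u}
    MorphismProperty.of_isPullback_of_descendsAlong (P := @QuasiSeparated)
      (Q := (@Surjective ⊓ @Flat ⊓ @QuasiCompact : MorphismProperty Scheme.{u})) H.flip hfQ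
      (inferInstance : QuasiSeparated iY)
  have : QuasiSeparatedSpace X := quasiSeparatedSpace_of_quasiSeparated iX
  have H2 := isPullback_toSpecΓ_of_flat H
  have hQ' : (@Surjective ⊓ @Flat ⊓ @QuasiCompact : MorphismProperty Scheme.{u})
      (Spec.map f.appTop) := by
    have h1 := MorphismProperty.cancel_left_of_respectsIso
      (@Surjective ⊓ @Flat ⊓ @QuasiCompact : MorphismProperty Scheme.{u}) T.toSpecΓ
      (Spec.map f.appTop)
    have h2 := MorphismProperty.cancel_right_of_respectsIso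
      (@Surjective ⊓ @Flat ⊓ @QuasiCompact : MorphismProperty Scheme.{u}) f S.toSpecΓ
    rw [← Scheme.toSpecΓ_naturality] at h1
    exact h1.mp (h2.mpr hfQ)
  have hQ : (@Surjective ⊓ @Flat ⊓ @QuasiCompact : MorphismProperty Scheme.{u})
      (Spec.map g.appTop) :=
    MorphismProperty.of_isPullback (isPullback_SpecMap_appTop_of_flat H).flip hQ'
  have : IsIso X.toSpecΓ :=
    MorphismProperty.of_isPullback_of_descendsAlong (P := MorphismProperty.isomorphisms Scheme.{u})
      (Q := (@Surjective ⊓ @Flat ⊓ @QuasiCompact : MorphismProperty Scheme.{u})) H2.flip hQ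
      (inferInstance : IsIso Y.toSpecΓ)
  exact ⟨this⟩

end Groth.Agent.H1
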