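import Mathlib
import Groth.Agent.H7.DvrLenSkel

/-!
# (M2) for S4980: a maximal point of the support of the generic fibre specializes to a maximal
point of the support of the closed fibre.
-/

set_option autoImplicit false
set_option linter.style.haveILetI false
universe u
open CategoryTheory CategoryTheory.Limits AlgebraicGeometry TopologicalSpace Opposite TensorProduct
open IsLocalRing

namespace Groth.Agent.H1.DvrLen_M2

open Groth.Agent.H7.DvrLen (MaxSupp)
open Groth.Agent.H7.AssTensorFlat

theorem subsingleton_iff_of_length_eq {R R' M M' : Type*} [Ring R] [Ring R'] [AddCommGroup M]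
    [AddCommGroup M'] [Module R M] [Module R' M']
    (h : Module.length R M = Module.length R' M') : Subsingleton M ↔ Subsingleton M' := by
  rw [← Module.length_eq_zero_iff (R := R), ← Module.length_eq_zero_iff (R := R'), h]

theorem nontrivial_of_isAssociatedPrime {R M : Type*} [CommRing R] [AddCommGroup M] [Module R M]
    {I : Ideal R} (h : IsAssociatedPrime I M) : Nontrivial M := by
  by_contra hn
  rw [not_nontrivial_iff_subsingleton] at hn
  have h' : (⊥ : Submodule R M).IsAssociatedPrime I := h
  obtain ⟨m, hm⟩ := h'.eq_radical_colon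
  apply h'.toIsPrime.ne_top
  rw [hm, Ideal.radical_eq_top, Ideal.eq_top_iff_one, Submodule.mem_colon_singleton,
    Submodule.mem_bot]
  exact Subsingleton.elim _ _

/-- The stalk of `Spec A` at the closed point of a DVR `A` is a DVR. -/
theorem dvr_stalk (A : Type u) [CommRing A] [IsDomain A] [IsDiscreteValuationRing A]
    (y : ↥(Spec (CommRingCat.of A))) (hy : y = closedPoint A) :
    ∃ (_ : IsDomain ((Spec (CommRingCat.of A)).presheaf.stalk y)),
      IsDiscreteValuationRing ((Spec (CommRingCat.of A)).presheaf.stalk y) := by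
  subst hy
  letI k : Algebra A ((Spec (CommRingCat.of A)).presheaf.stalk (closedPoint A)) :=
    StructureSheaf.stalkAlgebra A (closedPoint A)
  haveI : IsLocalization.AtPrime ((Spec (CommRingCat.of A)).presheaf.stalk (closedPoint A))
      (closedPoint A).asIdeal := StructureSheaf.IsLocalization.to_stalk A (closedPoint A)
  let e : A ≃ₐ[A] ((Spec (CommRingCat.of A)).presheaf.stalk (closedPoint A)) :=
    IsLocalization.atUnits A (closedPoint A).asIdeal.primeCompl (fun a ha => by
      have ha' : a ∉ maximalIdeal A := ha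
      rw [mem_maximalIdeal, mem_nonunits_iff, not_not] at ha'
      exact ha')
  haveI hd : IsDomain ((Spec (CommRingCat.of A)).presheaf.stalk (closedPoint A)) :=
    e.symm.injective.isDomain e.symm.toRingEquiv.toRingHom
  exact ⟨hd, IsDiscreteValuationRing.RingEquivClass.isDiscreteValuationRing e.toRingEquiv⟩

/-- (M2) -/
theorem exists_maxSupp_specialization {A : Type u} [CommRing A] [IsDomain A]
    [IsDiscreteValuationRing A] {X : Scheme.{u}} (f : X ⟶ Spec (CommRingCat.of A)) [IsProper f]
    (F : X.Modules) (hF : Coh.IsCoh F) (hflat : FlatMod.IsFlatOver f F)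
    (hemb : AssSch.NoEmbedded ((Scheme.Modules.pullback (f.fiberι (closedPoint A))).obj F))
    (z' : ↥(f.fiber (genericPoint ↥(Spec (CommRingCat.of A)))))
    (hz' : MaxSupp ((Scheme.Modules.pullback
      (f.fiberι (genericPoint ↥(Spec (CommRingCat.of A))))).obj F) z') :
    ∃ z : ↥(f.fiber (closedPoint A)),
      MaxSupp ((Scheme.Modules.pullback (f.fiberι (closedPoint A))).obj F) z ∧
      f.fiberι (genericPoint ↥(Spec (CommRingCat.of A))) z' ⤳ f.fiberι (closedPoint A) z := by
  haveI : F.IsQuasicoherent := hF.1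
  haveI : IsLocallyNoetherian (Spec (CommRingCat.of A)) := inferInstance
  haveI : IsLocallyNoetherian X := LocallyOfFiniteType.isLocallyNoetherian f
  obtain ⟨x', hx'⟩ : ∃ x' : X, x' = f.fiberι (genericPoint ↥(Spec (CommRingCat.of A))) z' :=
    ⟨_, rfl⟩
  have hfx' : f x' = genericPoint ↥(Spec (CommRingCat.of A)) := by
    have : x' ∈ Set.range (f.fiberι (genericPoint ↥(Spec (CommRingCat.of A)))) := ⟨z', hx'.symm⟩
    rw [Scheme.Hom.range_fiberι] at this
    exact this
  obtain ⟨x, hfx, hx'x, hxmax⟩ :=
    Groth.Agent.H7.DvrLenSkel.exists_specialization_closedFibre f x'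
  -- the local algebra situation at `x`
  obtain ⟨hdom, hdvr⟩ := dvr_stalk A (f x) hfx
  haveI := hdom
  haveI := hdvr
  letI algAB : Algebra ((Spec (CommRingCat.of A)).presheaf.stalk (f x)) (X.presheaf.stalk x) :=
    (f.stalkMap x).hom.toAlgebra
  letI modAF : Module ((Spec (CommRingCat.of A)).presheaf.stalk (f x)) (F.presheaf.stalk x) :=
    FlatMod.moduleStalkOver f F x
  haveI tower : IsScalarTower ((Spec (CommRingCat.of A)).presheaf.stalk (f x))
      (X.presheaf.stalk x) (F.presheaf.stalk x) := IsScalarTower.of_algebraMap_smul fun _ _ => rfl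
  haveI : IsLocalHom (algebraMap ((Spec (CommRingCat.of A)).presheaf.stalk (f x))
      (X.presheaf.stalk x)) := (inferInstance : IsLocalHom (f.stalkMap x).hom)
  haveI : Module.Flat ((Spec (CommRingCat.of A)).presheaf.stalk (f x)) (F.presheaf.stalk x) :=
    hflat x
  haveI : Module.Finite (X.presheaf.stalk x) (F.presheaf.stalk x) :=
    Groth.Agent.H8.finite_stalk_of_isCoh F hF x
  -- the prime of `x'`
  obtain ⟨p', hp'⟩ : ∃ p' : PrimeSpectrum (X.presheaf.stalk x), (X.fromSpecStalk x) p' = x' := by
    have : x' ∈ Set.range (X.fromSpecStalk x) := by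
      rw [Scheme.range_fromSpecStalk]; exact hx'x
    exact this
  have hjspec : ∀ q q' : PrimeSpectrum (X.presheaf.stalk x),
      (X.fromSpecStalk x) q ⤳ (X.fromSpecStalk x) q' ↔ q ≤ q' := by
    intro q q'
    rw [PrimeSpectrum.le_iff_specializes]
    exact (X.fromSpecStalk x).isEmbedding.isInducing.specializes_iff
  have hjinj : Function.Injective (X.fromSpecStalk x) :=
    (X.fromSpecStalk x).isEmbedding.injective
  have hjx : ∀ q : PrimeSpectrum (X.presheaf.stalk x), (X.fromSpecStalk x) q ⤳ x := by
    intro q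
    have : (X.fromSpecStalk x) q ∈ Set.range (X.fromSpecStalk x) := ⟨q, rfl⟩
    rw [Scheme.range_fromSpecStalk] at this
    exact this
  have hGZ : ∀ q : PrimeSpectrum (X.presheaf.stalk x),
      Subsingleton (LocalizedModule q.asIdeal.primeCompl (F.presheaf.stalk x)) ↔
        Subsingleton (F.presheaf.stalk ((X.fromSpecStalk x) q)) :=
    fun q => (subsingleton_iff_of_length_eq
      (Groth.Agent.H7.DvrLenSkel.length_stalk_fromSpecStalk X F x q)).symm
  have hSLG : ∀ v : ↥(f.fiber (genericPoint ↥(Spec (CommRingCat.of A)))),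
      Subsingleton (((Scheme.Modules.pullback
        (f.fiberι (genericPoint ↥(Spec (CommRingCat.of A))))).obj F).presheaf.stalk v) ↔
      Subsingleton (F.presheaf.stalk (f.fiberι (genericPoint ↥(Spec (CommRingCat.of A))) v)) :=
    fun v => subsingleton_iff_of_length_eq
      (Groth.Agent.H7.DvrLenSkel.length_stalk_genericFibre f F v)
  have hp1 : Nontrivial (LocalizedModule p'.asIdeal.primeCompl (F.presheaf.stalk x)) := by
    rw [← not_subsingleton_iff_nontrivial, hGZ p', hp', hx', ← hSLG z',
      not_subsingleton_iff_nontrivial]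
    exact hz'.1
  have hp2 : ∀ q : PrimeSpectrum (X.presheaf.stalk x), q < p' →
      Subsingleton (LocalizedModule q.asIdeal.primeCompl (F.presheaf.stalk x)) := by
    intro q hq
    rw [hGZ q]
    have h1 : (X.fromSpecStalk x) q ⤳ x' := by
      rw [← hp']; exact (hjspec q p').2 hq.le
    have h2 : f ((X.fromSpecStalk x) q) = genericPoint ↥(Spec (CommRingCat.of A)) := by
      have h3 : f ((X.fromSpecStalk x) q) ⤳ f x' := h1.map f.continuous
      rw [hfx'] at h3
      exact (h3.antisymm (genericPoint_specializes _)).eq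
    obtain ⟨w₀, hw₀⟩ : ∃ w₀ : ↥(f.fiber (genericPoint ↥(Spec (CommRingCat.of A)))),
        f.fiberι (genericPoint ↥(Spec (CommRingCat.of A))) w₀ = (X.fromSpecStalk x) q := by
      have : (X.fromSpecStalk x) q ∈
          Set.range (f.fiberι (genericPoint ↥(Spec (CommRingCat.of A)))) := by
        rw [Scheme.Hom.range_fiberι]; exact h2
      exact this
    rw [← hw₀, ← hSLG w₀]
    by_contra hns
    rw [not_subsingleton_iff_nontrivial] at hns
    have h4 : w₀ ⤳ z' := by
      rw [← (f.fiberι (genericPoint ↥(Spec (CommRingCat.of A)))).isEmbedding.isInducing.specializes_iff,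
        hw₀, ← hx']
      exact h1
    have h5 : w₀ = z' := hz'.2 w₀ hns (specializes_iff_mem_closure.1 h4)
    have h6 : (X.fromSpecStalk x) q = (X.fromSpecStalk x) p' := by
      rw [← hw₀, h5, ← hx', hp']
    exact hq.ne (hjinj h6)
  have hmin : ∀ q : PrimeSpectrum (X.presheaf.stalk x), p' ≤ q →
      (maximalIdeal ((Spec (CommRingCat.of A)).presheaf.stalk (f x))).map
        (algebraMap ((Spec (CommRingCat.of A)).presheaf.stalk (f x)) (X.presheaf.stalk x)) ≤
          q.asIdeal → q.asIdeal = maximalIdeal (X.presheaf.stalk x) := by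
    intro q hpq hI
    have h1 : f ((X.fromSpecStalk x) q) = f x :=
      (Groth.Agent.H7.DvrLenSkel.map_maximalIdeal_le_iff f x q).1 hI
    have h2 : x' ⤳ (X.fromSpecStalk x) q := by
      rw [← hp']; exact (hjspec p' q).2 hpq
    have h3 := hxmax _ h2 (hjx q) (h1.trans hfx)
    have h4 : q = closedPoint (X.presheaf.stalk x) :=
      hjinj (h3.trans Scheme.fromSpecStalk_closedPoint.symm)
    rw [h4]
    rfl
  obtain ⟨n, hn1, hn2⟩ := Groth.Agent.H7.DvrLenSkel.exists_socle_mod
    (A' := (Spec (CommRingCat.of A)).presheaf.stalk (f x)) (R := X.presheaf.stalk x)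
    (M := F.presheaf.stalk x) p' hp1 hp2 hmin
  have hFib : FibAss f F x := ⟨n, hn1, hn2⟩
  -- the point `z`
  obtain ⟨z, hz⟩ : ∃ z : ↥(f.fiber (closedPoint A)), f.fiberι (closedPoint A) z = x := by
    have : x ∈ Set.range (f.fiberι (closedPoint A)) := by
      rw [Scheme.Hom.range_fiberι]; exact hfx
    exact this
  have hzAss : z ∈ AssSch.Ass ((Scheme.Modules.pullback (f.fiberι (closedPoint A))).obj F) := by
    rw [mem_ass_fibre_iff f F hF (closedPoint A) z, hz]
    exact hFib
  refine ⟨z, ⟨nontrivial_of_isAssociatedPrime hzAss, ?_⟩, ?_⟩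
  · intro w₀ hw₀ hzw
    have hw₀z : w₀ ⤳ z := specializes_iff_mem_closure.2 hzw
    have hsupp : f.fiberι (closedPoint A) w₀ ∈ CohB1.support F := by
      intro hsub
      have hlen := Groth.Agent.H7.DvrLenSkel.length_stalk_fibre f F (closedPoint A) w₀
      have hq : Subsingleton ((F.presheaf.stalk (f.fiberι (closedPoint A) w₀)) ⧸
          ((Ideal.map (f.stalkMap (f.fiberι (closedPoint A) w₀)).hom
              (maximalIdeal ((Spec (CommRingCat.of A)).presheaf.stalk
                (f (f.fiberι (closedPoint A) w₀))))) •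
            (⊤ : Submodule (X.presheaf.stalk (f.fiberι (closedPoint A) w₀))
              (F.presheaf.stalk (f.fiberι (closedPoint A) w₀))))) := by
        refine ⟨fun a b => ?_⟩
        obtain ⟨a, rfl⟩ := Submodule.Quotient.mk_surjective _ a
        obtain ⟨b, rfl⟩ := Submodule.Quotient.mk_surjective _ b
        rw [Subsingleton.elim a b]
      rw [Module.length_eq_zero_iff.2 hq, Module.length_eq_zero_iff] at hlen
      exact (not_subsingleton_iff_nontrivial.2 hw₀) hlen
    obtain ⟨x₀, hx₀w, hfx₀, hFib₀⟩ := exists_fibAss_generization f F hF _ hsupp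
    obtain ⟨a₀, ha₀⟩ : ∃ a₀ : ↥(f.fiber (closedPoint A)), f.fiberι (closedPoint A) a₀ = x₀ := by
      have : x₀ ∈ Set.range (f.fiberι (closedPoint A)) := by
        have h1 : f.fiberι (closedPoint A) w₀ ∈ Set.range (f.fiberι (closedPoint A)) := ⟨w₀, rfl⟩
        rw [Scheme.Hom.range_fiberι] at h1 ⊢
        exact hfx₀.trans h1
      exact this
    have ha₀Ass : a₀ ∈ AssSch.Ass
        ((Scheme.Modules.pullback (f.fiberι (closedPoint A))).obj F) := by
      rw [mem_ass_fibre_iff f F hF (closedPoint A) a₀, ha₀]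
      exact hFib₀
    have ha₀w : a₀ ⤳ w₀ := by
      rw [← (f.fiberι (closedPoint A)).isEmbedding.isInducing.specializes_iff, ha₀]
      exact hx₀w
    have hza : z = a₀ := hemb z hzAss a₀ ha₀Ass (ha₀w.trans hw₀z)
    rw [← hza] at ha₀w
    exact (hw₀z.antisymm ha₀w).eq
  · rw [hz, ← hx']
    exact hx'x

end Groth.Agent.H1.DvrLen_M2
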