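import Groth.Agent.H5.ExDefs

/-! (C) for helper5's S0829 squad: the cokernel of `a : Φ_n → G` is killed by `I^t`
(purely categorical proof: pull back the epi `F_{n+s} ↠ im α` along `a' • πG`). -/

set_option autoImplicit false
universe u
open CategoryTheory CategoryTheory.Limits AlgebraicGeometry Opposite
open Groth.Agent.S9528 Groth.Agent.H5.Ker Groth.Agent.H5.Ex

namespace Groth.Agent.H1.Ex_C

variable {A : Type u} [CommRing A] {X : Scheme.{u}} [X.Over (Spec (CommRingCat.of A))]
  (I : Ideal A)

theorem coker_a {G : X.Modules} {F : ℕᵒᵖ ⥤ X.Modules} (α : F ⟶ Formal.completion I G)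
    [IsNoetherian X] (hG : Coh.IsCoh G) (hF : Formal.IsCohFormal I F) {t : ℕ}
    (hcok : ∀ n, Formal.KilledBy (I ^ t) (cokernel (α.app (op n)))) (s n : ℕ) (hs : t ≤ s) :
    Formal.KilledBy (I ^ t) (cokernel (aΦ I α s n)) := by
  intro a' ha'
  have hred : Formal.smulMod A G a' ≫ cokernel.π (aΦ I α s n) = 0 := by
    have hv : (Formal.smulMod A G a' ≫ πG I G (n + s)) ≫
        cokernel.π (α.app (op (n + s))) = 0 := by
      rw [Category.assoc, Groth.Agent.S0832.smulMod_naturality
        (πG I G (n + s) ≫ cokernel.π (α.app (op (n + s)))) a', hcok (n + s) a' ha', comp_zero]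
    obtain ⟨e, hepi, he⟩ : ∃ e : F.obj (op (n + s)) ⟶ kernel (cokernel.π (α.app (op (n + s)))),
        Epi e ∧ e ≫ kernel.ι (cokernel.π (α.app (op (n + s)))) = α.app (op (n + s)) :=
      ⟨Abelian.factorThruImage _, inferInstance, Abelian.image.fac _⟩
    haveI := hepi
    obtain ⟨v', hv'⟩ : ∃ v' : G ⟶ kernel (cokernel.π (α.app (op (n + s)))),
        v' ≫ kernel.ι (cokernel.π (α.app (op (n + s)))) =
          Formal.smulMod A G a' ≫ πG I G (n + s) :=
      ⟨kernel.lift _ _ hv, kernel.lift_ι _ _ _⟩
    haveI : Epi (pullback.snd e v') := Abelian.epi_pullback_of_epi_f e v'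
    have hcond : pullback.fst e v' ≫ α.app (op (n + s)) =
        (pullback.snd e v' ≫ Formal.smulMod A G a') ≫ πG I G (n + s) := by
      have h1 : pullback.fst e v' ≫ e = pullback.snd e v' ≫ v' := pullback.condition
      have h2 := congrArg (fun z => z ≫ kernel.ι (cokernel.π (α.app (op (n + s))))) h1
      simp only [Category.assoc] at h2
      rw [he, hv'] at h2
      rw [h2, Category.assoc]
    obtain ⟨w, hw⟩ : ∃ w : pullback e v' ⟶ P I α (n + s),
        w ≫ sndP I α (n + s) = pullback.snd e v' ≫ Formal.smulMod A G a' :=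
      ⟨pullback.lift _ _ hcond, pullback.lift_snd _ _ _⟩
    have hz : sndP I α (n + s) ≫ cokernel.π (aΦ I α s n) = 0 := by
      have h1 : sndP I α (n + s) = Φπ I α s n ≫ aΦ I α s n := by
        unfold aΦ
        rw [← Category.assoc, Φπ_ι, tP_snd]
      rw [h1, Category.assoc, cokernel.condition, comp_zero]
    rw [← cancel_epi (pullback.snd e v'), ← Category.assoc, ← hw, Category.assoc, hz, comp_zero,
      comp_zero]
  rw [← cancel_epi (cokernel.π (aΦ I α s n)), ← Groth.Agent.S0832.smulMod_naturality, hred,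
    comp_zero]

end Groth.Agent.H1.Ex_C
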