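import Mathlib

/-! (PIFLAT) for helper46's S11178 squad: a product of flat modules indexed by `ℤ`, all but finitely
many of which are zero, is flat. -/

set_option autoImplicit false
universe u
open CategoryTheory CochainComplex.HomComplex

namespace Groth.Agent.H1.FI_PIFLAT

variable {A : Type u} [CommRing A]

theorem flat_pi_of_finite_support (M : ℤ → Type u) [∀ i, AddCommGroup (M i)]
    [∀ i, Module A (M i)] (s : Finset ℤ) (hs : ∀ i, i ∉ s → Subsingleton (M i))
    (hflat : ∀ i, Module.Flat A (M i)) : Module.Flat A (∀ i, M i) := by
  classical
  haveI : ∀ i, Module.Flat A (M i) := hflat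
  have hbij : Function.Bijective (DFinsupp.coeFnLinearMap A (β := M)) := by
    constructor
    · intro x y hxy
      exact DFunLike.coe_injective hxy
    · intro f
      refine ⟨DFinsupp.mk s (fun i => f i), ?_⟩
      funext i
      by_cases hi : i ∈ s
      · simp [DFinsupp.mk_apply, hi]
      · haveI := hs i hi
        exact Subsingleton.elim _ _
  exact Module.Flat.of_linearEquiv (LinearEquiv.ofBijective _ hbij).symm

end Groth.Agent.H1.FI_PIFLAT
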