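import Mathlib
import Groth.Prelude.Def_CohB1
import Groth.Agent.H22.FPExt.Defs

/-! (P8) for helper22's S2115 squad: `tilde g` is bijective on sections over every open contained
in a union of basic opens `D(f)` on which `g_f` is bijective. -/

set_option autoImplicit false
universe u
open CategoryTheory CategoryTheory.Limits AlgebraicGeometry TopologicalSpace Opposite
open AlgebraicGeometry.Scheme.Modules
open Groth.Agent.H22.FPExt

namespace Groth.Agent.H1.FPExt_P8

section Alg

variable {R : Type*} [CommRing R] {N M N' M' : Type*} [AddCommGroup N] [AddCommGroup M]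
  [Module R N] [Module R M] [AddCommGroup N'] [AddCommGroup M'] [Module R N'] [Module R M']

theorem away_map_bijective (g : N →ₗ[R] M) (f h : R)
    (hf : Function.Bijective (LocalizedModule.map (Submonoid.powers f) g))
    (ℓN : N →ₗ[R] N') (ℓM : M →ₗ[R] M') [IsLocalizedModule (Submonoid.powers (f * h)) ℓN]
    [IsLocalizedModule (Submonoid.powers (f * h)) ℓM]
    (φ : N' →ₗ[R] M') (hφ : ∀ n, φ (ℓN n) = ℓM (g n)) : Function.Bijective φ := by
  constructor
  · rw [injective_iff_map_eq_zero]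
    intro y hy
    obtain ⟨⟨n, t⟩, hnt⟩ := IsLocalizedModule.surj (Submonoid.powers (f * h)) ℓN y
    have hnt' : (t : R) • y = ℓN n := hnt
    have h1 : ℓM (g n) = ℓM 0 := by
      rw [← hφ, ← hnt', _root_.map_smul, hy, smul_zero, map_zero]
    obtain ⟨c, hc⟩ := IsLocalizedModule.exists_of_eq (S := Submonoid.powers (f * h)) h1
    have hc' : g ((c : R) • n) = 0 := by
      rw [_root_.map_smul]
      have : (c : R) • g n = (c : R) • (0 : M) := hc
      rw [this, smul_zero]
    have hw : LocalizedModule.mk ((c : R) • n) (1 : Submonoid.powers f) =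
        LocalizedModule.mk (0 : N) (1 : Submonoid.powers f) := by
      apply hf.1
      rw [LocalizedModule.map_mk, LocalizedModule.map_mk, hc', map_zero]
    obtain ⟨u, hu⟩ := LocalizedModule.mk_eq.1 hw
    obtain ⟨i, hi⟩ := u.2
    have hu' : (f ^ i) • (c : R) • n = 0 := by
      have : (u : R) • ((1 : Submonoid.powers f) : R) • (c : R) • n =
          (u : R) • ((1 : Submonoid.powers f) : R) • (0 : N) := hu
      rw [← hi] at this
      simpa using this
    have hmem : (f * h) ^ i * (c : R) ∈ Submonoid.powers (f * h) :=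
      Submonoid.mul_mem _ (Submonoid.pow_mem _ (Submonoid.mem_powers _) i) c.2
    have h2 : ((f * h) ^ i * (c : R)) • n = 0 := by
      rw [mul_pow, show f ^ i * h ^ i * (c : R) = h ^ i * (f ^ i * c) by ring, mul_smul, mul_smul,
        hu', smul_zero]
    have h3 : ℓN n = 0 := by
      apply IsLocalizedModule.smul_injective ℓN (⟨_, hmem⟩ : Submonoid.powers (f * h))
      show ((f * h) ^ i * (c : R)) • ℓN n = ((f * h) ^ i * (c : R)) • (0 : N')
      rw [← _root_.map_smul, h2, map_zero, smul_zero]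
    apply IsLocalizedModule.smul_injective ℓN t
    show (t : R) • y = (t : R) • (0 : N')
    rw [hnt', h3, smul_zero]
  · intro z
    obtain ⟨⟨m, t⟩, hmt⟩ := IsLocalizedModule.surj (Submonoid.powers (f * h)) ℓM z
    have hmt' : (t : R) • z = ℓM m := hmt
    obtain ⟨w, hw⟩ := hf.2 (LocalizedModule.mk m (1 : Submonoid.powers f))
    induction w using LocalizedModule.induction_on with
    | h n s =>
      rw [LocalizedModule.map_mk, LocalizedModule.mk_eq] at hw
      obtain ⟨u, hu⟩ := hw
      obtain ⟨i, hi⟩ := u.2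
      obtain ⟨l, hl⟩ := s.2
      have hu' : (f ^ i) • g n = (f ^ i) • (f ^ l) • m := by
        have : (u : R) • ((1 : Submonoid.powers f) : R) • g n = (u : R) • (s : R) • m := hu
        rw [← hi, ← hl] at this
        simpa using this
      have hcm : ((f * h) ^ (i + l)) • m = g ((h ^ (i + l) * f ^ i) • n) := by
        rw [_root_.map_smul, mul_smul, hu', smul_smul, smul_smul]
        congr 1
        ring
      have hmemc : (f * h) ^ (i + l) ∈ Submonoid.powers (f * h) :=
        Submonoid.pow_mem _ (Submonoid.mem_powers _) (i + l)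
      refine ⟨IsLocalizedModule.mk' ℓN ((h ^ (i + l) * f ^ i) • n)
        ((⟨_, hmemc⟩ : Submonoid.powers (f * h)) * t), ?_⟩
      apply IsLocalizedModule.smul_injective ℓM ((⟨_, hmemc⟩ : Submonoid.powers (f * h)) * t)
      show (((f * h) ^ (i + l)) * (t : R)) • φ _ = (((f * h) ^ (i + l)) * (t : R)) • z
      rw [← _root_.map_smul]
      have h4 : (((f * h) ^ (i + l)) * (t : R)) • IsLocalizedModule.mk' ℓN
          ((h ^ (i + l) * f ^ i) • n) ((⟨_, hmemc⟩ : Submonoid.powers (f * h)) * t) =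
          ℓN ((h ^ (i + l) * f ^ i) • n) :=
        IsLocalizedModule.mk'_cancel' ℓN _ ((⟨_, hmemc⟩ : Submonoid.powers (f * h)) * t)
      rw [h4, hφ, ← hcm, _root_.map_smul, ← hmt', smul_smul]

end Alg

section Stalk

variable {R : Type u} [Ring R] {X : TopCat.{u}}

theorem stalk_bijective_of_basis {F G : TopCat.Presheaf (ModuleCat.{u} R) X} (φ : F ⟶ G) (x : X)
    (hB : ∀ V : Opens X, x ∈ V → ∃ V' : Opens X, x ∈ V' ∧ V' ≤ V ∧
      Function.Bijective (φ.app (op V'))) :
    Function.Bijective ((TopCat.Presheaf.stalkFunctor (ModuleCat.{u} R) x).map φ) := by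
  constructor
  · intro a b hab
    obtain ⟨V₁, hx₁, s₁, rfl⟩ := F.exists_germ_eq a
    obtain ⟨V₂, hx₂, s₂, rfl⟩ := F.exists_germ_eq b
    rw [TopCat.Presheaf.stalkFunctor_map_germ_apply, TopCat.Presheaf.stalkFunctor_map_germ_apply]
      at hab
    obtain ⟨W, hxW, iU, iV, hW⟩ := G.germ_eq x hx₁ hx₂ _ _ hab
    obtain ⟨V', hxV', hV'W, hbij⟩ := hB W hxW
    have e1 : φ.app (op V') (F.map (homOfLE hV'W ≫ iU).op s₁) =
        G.map (homOfLE hV'W ≫ iU).op (φ.app (op V₁) s₁) :=
      ConcreteCategory.congr_hom (φ.naturality (homOfLE hV'W ≫ iU).op) s₁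
    have e2 : φ.app (op V') (F.map (homOfLE hV'W ≫ iV).op s₂) =
        G.map (homOfLE hV'W ≫ iV).op (φ.app (op V₂) s₂) :=
      ConcreteCategory.congr_hom (φ.naturality (homOfLE hV'W ≫ iV).op) s₂
    have e3 : G.map (homOfLE hV'W ≫ iU).op (φ.app (op V₁) s₁) =
        G.map (homOfLE hV'W ≫ iV).op (φ.app (op V₂) s₂) := by
      rw [op_comp, G.map_comp, op_comp, G.map_comp, ConcreteCategory.comp_apply,
        ConcreteCategory.comp_apply, hW]
    have e4 : F.map (homOfLE hV'W ≫ iU).op s₁ = F.map (homOfLE hV'W ≫ iV).op s₂ :=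
      hbij.1 (e1.trans (e3.trans e2.symm))
    exact F.germ_ext V' hxV' (homOfLE hV'W ≫ iU) (homOfLE hV'W ≫ iV) e4
  · intro b
    obtain ⟨V, hxV, t, rfl⟩ := G.exists_germ_eq b
    obtain ⟨V', hxV', hV'V, hbij⟩ := hB V hxV
    obtain ⟨s', hs'⟩ := hbij.2 (G.map (homOfLE hV'V).op t)
    refine ⟨F.germ V' x hxV' s', ?_⟩
    rw [TopCat.Presheaf.stalkFunctor_map_germ_apply, hs', TopCat.Presheaf.germ_res_apply]

end Stalk

theorem tilde_map_bijOn (R : CommRingCat.{u}) {N M : ModuleCat.{u} R} (g : N ⟶ M) (s : Finset R)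
    (h : ∀ f ∈ s, Function.Bijective (LocalizedModule.map (Submonoid.powers f) g.hom)) :
    BijOn ((tilde.functor R).map g)
      (⨆ f ∈ s, (PrimeSpectrum.basicOpen f : (Spec R).Opens)) := by
  intro O hO
  have key := TopCat.Presheaf.app_bijective_of_stalkFunctor_map_bijective
    (modulesSpecToSheaf.map (tilde.map g)) O ?_
  · exact key
  intro x hx
  have hx' := hO hx
  obtain ⟨f, hx''⟩ := Opens.mem_iSup.1 hx'
  obtain ⟨hfs, hxf⟩ := Opens.mem_iSup.1 hx''
  apply stalk_bijective_of_basis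
  intro V hxV
  obtain ⟨_, ⟨_, ⟨a, rfl⟩, rfl⟩, hxa, haV⟩ :=
    PrimeSpectrum.isBasis_basic_opens.exists_subset_of_mem_open hxV V.2
  refine ⟨PrimeSpectrum.basicOpen (f * a), ?_, ?_, ?_⟩
  · rw [PrimeSpectrum.basicOpen_mul]; exact ⟨hxf, hxa⟩
  · rw [PrimeSpectrum.basicOpen_mul]; exact inf_le_right.trans haV
  · exact away_map_bijective g.hom f a (h f hfs)
      (tilde.toOpen N (PrimeSpectrum.basicOpen (f * a))).hom
      (tilde.toOpen M (PrimeSpectrum.basicOpen (f * a))).hom
      ((modulesSpecToSheaf.map (tilde.map g)).1.app (op (PrimeSpectrum.basicOpen (f * a)))).hom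
      (fun n => congr($(tilde.toOpen_map_app g (PrimeSpectrum.basicOpen (f * a))).hom n))

end Groth.Agent.H1.FPExt_P8
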