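import Mathlib
import Groth.Prelude.Def_SGA1

/-! (C) for helper79's S2919 squad: if the translates of an open `U` under a finite group are
pairwise disjoint and cover `X`, there is an invariant retraction `X ⟶ U`. -/

set_option autoImplicit false
universe u
open CategoryTheory CategoryTheory.Limits AlgebraicGeometry

namespace Groth.Agent.H1.FreeSec_C

section

variable {X : Scheme.{u}} {G : Type u} [Group G] (ρ : G →* Aut X)

theorem rho_mul_hom (a b : G) : (ρ (a * b)).hom = (ρ b).hom ≫ (ρ a).hom := by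
  rw [map_mul]; rfl

theorem rho_one_hom : (ρ 1).hom = 𝟙 X := by
  rw [map_one]; rfl

theorem rho_mul_base (a b : G) (x : X) :
    (ρ (a * b)).hom.base x = (ρ a).hom.base ((ρ b).hom.base x) := by
  rw [rho_mul_hom]; rfl

end

theorem exists_retraction {X : Scheme.{u}} {G : Type u} [Group G] [Finite G] (ρ : G →* Aut X)
    (U : X.Opens) (hcov : ∀ x : X, ∃ g : G, (ρ g).hom.base x ∈ U)
    (hdisj : ∀ g : G, g ≠ 1 → ∀ x : X, x ∈ U → (ρ g).hom.base x ∉ U) :
    ∃ t : X ⟶ U.toScheme, U.ι ≫ t = 𝟙 _ ∧ (∀ g : G, (ρ g).hom ≫ t = t) ∧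
      ∀ {W : Scheme.{u}} (p : X ⟶ W), (∀ g : G, (ρ g).hom ≫ p = p) → t ≫ U.ι ≫ p = p := by
  -- the translates
  let V : G → X.Opens := fun g => (ρ g).hom ⁻¹ᵁ U
  have hV : TopologicalSpace.IsOpenCover V := by
    refine TopologicalSpace.IsOpenCover.mk (eq_top_iff.2 fun x _ => ?_)
    obtain ⟨g, hg⟩ := hcov x
    exact TopologicalSpace.Opens.mem_iSup.2 ⟨g, hg⟩
  have hVdisj : ∀ g h : G, ∀ x : X, x ∈ V g → x ∈ V h → g = h := by
    intro g h x hxg hxh
    by_contra hne
    have h1 : h * g⁻¹ ≠ 1 := fun e => hne (by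
      have := mul_inv_eq_one.1 e
      exact this.symm)
    refine hdisj (h * g⁻¹) h1 ((ρ g).hom.base x) hxg ?_
    rw [← rho_mul_base, inv_mul_cancel_right]
    exact hxh
  let 𝒰 : X.OpenCover := X.openCoverOfIsOpenCover V hV
  -- glue the restrictions
  have hcompat : ∀ g h : G, pullback.fst (𝒰.f g) (𝒰.f h) ≫ ((ρ g).hom ∣_ U) =
      pullback.snd (𝒰.f g) (𝒰.f h) ≫ ((ρ h).hom ∣_ U) := by
    intro g h
    by_cases hgh : g = h
    · subst hgh
      have : pullback.fst (𝒰.f g) (𝒰.f g) = pullback.snd (𝒰.f g) (𝒰.f g) := by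
        have hm : Mono (𝒰.f g) := by
          change Mono (V g).ι
          infer_instance
        exact (cancel_mono (𝒰.f g)).1 pullback.condition
      rw [this]
    · haveI : IsEmpty ↥(pullback (𝒰.f g) (𝒰.f h)) := by
        constructor
        intro z
        apply hgh
        have e : (pullback.fst (𝒰.f g) (𝒰.f h) ≫ 𝒰.f g).base z =
            (pullback.snd (𝒰.f g) (𝒰.f h) ≫ 𝒰.f h).base z := by
          rw [pullback.condition]
        refine hVdisj g h ((pullback.fst (𝒰.f g) (𝒰.f h) ≫ 𝒰.f g).base z) ?_ ?_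
        · exact ((pullback.fst (𝒰.f g) (𝒰.f h)).base z).2
        · rw [e]
          exact ((pullback.snd (𝒰.f g) (𝒰.f h)).base z).2
      exact (isInitialOfIsEmpty (X := pullback (𝒰.f g) (𝒰.f h))).hom_ext _ _
  let t : X ⟶ U.toScheme := 𝒰.glueMorphisms (fun g => (ρ g).hom ∣_ U) hcompat
  have ht : ∀ g : G, (V g).ι ≫ t = (ρ g).hom ∣_ U := fun g =>
    𝒰.ι_glueMorphisms (fun g => (ρ g).hom ∣_ U) hcompat g
  -- the composite `s = t ≫ U.ι` restricted to the translates
  have hs : ∀ g : G, (V g).ι ≫ t ≫ U.ι = (V g).ι ≫ (ρ g).hom := by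
    intro g
    rw [← Category.assoc, ht g, morphismRestrict_ι]
  have hL : ∀ (k : G) (O : X.Opens), O ≤ V k → O.ι ≫ t ≫ U.ι = O.ι ≫ (ρ k).hom := by
    intro k O hO
    rw [← X.homOfLE_ι hO, Category.assoc, hs k, Category.assoc]
  refine ⟨t, ?_, ?_, ?_⟩
  · rw [← cancel_mono U.ι, Category.assoc, Category.id_comp]
    have h1 : U ≤ V 1 := by
      intro x hx
      change (ρ 1).hom.base x ∈ U
      rw [rho_one_hom]
      exact hx
    rw [hL 1 U h1, rho_one_hom, Category.comp_id]
  · intro g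
    rw [← cancel_mono U.ι, Category.assoc]
    apply Scheme.hom_ext_of_forall
    intro x
    obtain ⟨h, hh⟩ := hcov ((ρ g).hom.base x)
    refine ⟨(ρ g).hom ⁻¹ᵁ V h, hh, ?_⟩
    have hle : (ρ g).hom ⁻¹ᵁ V h ≤ V (h * g) := by
      intro y hy
      change (ρ (h * g)).hom.base y ∈ U
      rw [rho_mul_base]
      exact hy
    rw [hL (h * g) _ hle, ← Category.assoc, ← morphismRestrict_ι, Category.assoc, hs h,
      ← Category.assoc, morphismRestrict_ι, Category.assoc, rho_mul_hom]
  · intro W p hp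
    apply Scheme.hom_ext_of_forall
    intro x
    obtain ⟨h, hh⟩ := hcov x
    refine ⟨V h, hh, ?_⟩
    rw [← Category.assoc, ← Category.assoc, Category.assoc _ t, hs h, Category.assoc, hp h]

end Groth.Agent.H1.FreeSec_C
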