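import Mathlib
import Groth.Prelude.Def_SGA1

/-! (E) for helper79's S2919 squad: a family of pairwise disjoint open immersions covering `X`
exhibits `X` as the coproduct. -/

set_option autoImplicit false
universe u
open CategoryTheory CategoryTheory.Limits AlgebraicGeometry

namespace Groth.Agent.H1.FreeSec_E

theorem isIso_sigmaDesc {X : Scheme.{u}} {σ : Type u} (Y : σ → Scheme.{u}) (a : ∀ i, Y i ⟶ X)
    (ha : ∀ i, IsOpenImmersion (a i))
    (hdisj : ∀ i j, i ≠ j → Disjoint (Set.range (a i).base) (Set.range (a j).base))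
    (hcov : ∀ x : X, ∃ i, x ∈ Set.range (a i).base) : IsIso (Sigma.desc a) := by
  haveI : ∀ i, IsOpenImmersion (a i) := ha
  haveI : IsOpenImmersion (Sigma.desc a) := by
    refine isOpenImmersion_sigmaDesc _ _ (fun i j hij => ?_)
    exact hdisj i j hij
  apply isIso_of_isOpenImmersion_of_opensRange_eq_top
  rw [eq_top_iff]
  intro x _
  obtain ⟨i, y, rfl⟩ := hcov x
  refine ⟨(Sigma.ι Y i).base y, ?_⟩
  rw [← Scheme.Hom.comp_apply, Sigma.ι_desc]

end Groth.Agent.H1.FreeSec_E
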