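import Mathlib
import Groth.Agent.H21.Hyp.Defs
import Groth.Agent.H88.HypPhi
import Groth.Agent.H82.ProjFinite
import Groth.Agent.H8.QCohPush
import Groth.Agent.S0019

/-! (F2) for helper21's S7679 squad: `H^0` of a coherent module on a closed subscheme of `P^N_k`
is finite-dimensional. -/

set_option autoImplicit false
universe u
open CategoryTheory CategoryTheory.Limits AlgebraicGeometry TopologicalSpace Opposite

namespace Groth.Agent.H1.Hyp_F2

theorem toGlobal_comp {A : Type u} [CommRing A] {X P : Scheme.{u}} (i : X ⟶ P)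
    (g : P ⟶ Spec (CommRingCat.of A)) (c : A) :
    Coh.toGlobal (i ≫ g) c = (i.app ⊤).hom (Coh.toGlobal g c) := by
  simp only [Coh.toGlobal, RingHom.comp_apply]
  rfl

theorem finite_HH_zero_of_closedImmersion (k : Type u) [Field k] (X : Scheme.{u})
    [X.Over (Spec (CommRingCat.of k))] (N : ℕ) (i : X ⟶ CohB1.ProjSpace N k)
    [IsClosedImmersion i] (hi : i ≫ CohB1.ProjSpace.toSpec N k = X ↘ (Spec (CommRingCat.of k)))
    (G : X.Modules) (hG : Coh.IsCoh G) : Module.Finite k (Coh.HH X G 0) := by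
  haveI := Groth.Agent.H82.ProjFinite.isLocallyNoetherian N k
  have hpush : Coh.IsCoh ((Coh.push i).obj G) := Groth.Agent.S0019.result i G hG
  haveI hfin : Module.Finite k (Coh.HH (CohB1.ProjSpace N k) ((Coh.push i).obj G) 0) :=
    Groth.Agent.H82.ProjFinite.finite_HH N k ((Coh.push i).obj G) hpush 0
  -- the identification of global sections
  let ψ : Γ((Coh.push i).obj G, ⊤) ≃+ Γ(G, ⊤) := AddEquiv.refl _
  let φ : Coh.HH (CohB1.ProjSpace N k) ((Coh.push i).obj G) 0 ≃+ Coh.HH X G 0 :=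
    (Groth.Agent.H21.Hyp.e0 ((Coh.push i).obj G)).trans
      (ψ.trans (Groth.Agent.H21.Hyp.e0 G).symm)
  have hlin : ∀ (c : k) (t : Coh.HH (CohB1.ProjSpace N k) ((Coh.push i).obj G) 0),
      φ (c • t) = c • φ t := by
    intro c t
    have h1 : c • t = (Coh.toGlobal (CohB1.ProjSpace.toSpec N k) c) • t := rfl
    have h2 : c • φ t = (Coh.toGlobal (X ↘ (Spec (CommRingCat.of k))) c) • φ t := rfl
    have h3 : Coh.toGlobal (X ↘ (Spec (CommRingCat.of k))) c =
        (i.app ⊤).hom (Coh.toGlobal (CohB1.ProjSpace.toSpec N k) c) := by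
      rw [← hi]; exact toGlobal_comp i _ c
    rw [h1, h2, h3]
    show (Groth.Agent.H21.Hyp.e0 G).symm (ψ (Groth.Agent.H21.Hyp.e0 ((Coh.push i).obj G)
      ((Coh.toGlobal (CohB1.ProjSpace.toSpec N k) c) • t))) = _
    rw [Groth.Agent.H88.HypPhi.e0_smul]
    exact Groth.Agent.H88.HypPhi.e0_symm_smul G
      ((i.app ⊤).hom (Coh.toGlobal (CohB1.ProjSpace.toSpec N k) c))
      (ψ (Groth.Agent.H21.Hyp.e0 ((Coh.push i).obj G) t))
  let L : Coh.HH (CohB1.ProjSpace N k) ((Coh.push i).obj G) 0 ≃ₗ[k] Coh.HH X G 0 :=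
    { φ with map_smul' := hlin }
  exact Module.Finite.equiv L

end Groth.Agent.H1.Hyp_F2
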