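import Mathlib
import Groth.Agent.H69.DirColim
import Groth.Agent.H15.NilPair.Base
import Groth.Agent.H15.NilPair.Sys
import Groth.Agent.H15.IntPair.Sys

/-! (FIN) for helper15's S18014 squad: every stage algebra of the integral-pair system is finite
over `A`. -/

set_option autoImplicit false
universe u
open CategoryTheory MvPolynomial Limits
open Groth.Agent.H69 Groth.Agent.H15.IntPair
open Groth.Agent.H15.NilPair (PS IT Cq mkq mkq_surjective mkq_eq_zero mkq_eq_zero_iff fp tr tr_mkq
  tr_refl tr_trans toE toE_mkq toE_tr gen_top X_mem_PS PS_mono dirNat)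
open scoped Classical

namespace Groth.Agent.H1.IntPair_FIN

variable {A B C : Type u} [CommRing A] [CommRing B] [CommRing C] [Algebra A B] [Algebra A C]
  [Algebra B C] [IsScalarTower A B C]

/-- a finitely presented algebra `Cq S T` whose generators are integral is finite. -/
theorem finite_of_gen_integral {V : Type u} {S : Finset V} {T : Finset (MvPolynomial V A)}
    (h : ∀ b (hb : b ∈ S), IsIntegral A (mkq (A := A) S T ⟨X b, X_mem_PS hb⟩)) :
    (algebraMap A (Cq (A := A) S T)).Finite := by
  have htop : integralClosure A (Cq (A := A) S T) = ⊤ := gen_top _ h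
  haveI : Algebra.IsIntegral A (Cq (A := A) S T) := by
    constructor
    intro x
    have hx : x ∈ integralClosure A (Cq (A := A) S T) := by rw [htop]; exact Algebra.mem_top
    exact hx
  haveI : Algebra.FinitePresentation A (Cq (A := A) S T) := fp S T
  haveI : Algebra.FiniteType A (Cq (A := A) S T) := Algebra.FiniteType.of_finitePresentation
  haveI : Module.Finite A (Cq (A := A) S T) := Algebra.IsIntegral.finite
  exact RingHom.finite_algebraMap.2 inferInstance

theorem finite_stage (j : J A B C) :
    (algebraMap A (FB j)).Finite ∧ (algebraMap A (FC j)).Finite := by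
  have h3 := j.2.2.2.1
  have h4 := j.2.2.2.2.1
  have hB : ∀ v (hv : v ∈ j.1.WB), IsIntegral A (mkq (A := A) j.1.WB j.1.TB ⟨X v, X_mem_PS hv⟩) := by
    intro v hv
    rcases Finset.mem_disjSum.mp hv with ⟨b, hb, rfl⟩ | ⟨c, hc, rfl⟩
    · exact h3 b hb
    · exact absurd hc (Finset.notMem_empty c)
  refine ⟨finite_of_gen_integral hB, finite_of_gen_integral ?_⟩
  intro v hv
  rcases Finset.mem_disjSum.mp hv with ⟨b, hb, rfl⟩ | ⟨c, hc, rfl⟩
  · have hint : IsIntegral A (mkq (A := A) j.1.WB j.1.TB
        ⟨X (Sum.inl b), X_mem_PS (Raw.inl_mem_WB hb)⟩) := h3 b hb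
    have := hint.map (j.1.phi)
    exact this
  · exact h4 c hc

end Groth.Agent.H1.IntPair_FIN
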