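import Mathlib.RingTheory.Finiteness.Descent
import Mathlib.RingTheory.RingHom.Integral
import Mathlib.RingTheory.RingHom.FaithfullyFlat
import Mathlib.RingTheory.IntegralClosure.Algebra.Basic

set_option autoImplicit false
universe u
open TensorProduct

namespace Groth.Agent.H1

variable {R S : Type*} [CommRing R] [CommRing S] [Algebra R S]
  (T : Type*) [CommRing T] [Algebra R T]

theorem adjoin_one_tmul_eq_top (s : S) :
    Algebra.adjoin T {(1 : T) ⊗ₜ[R] (⟨s, Algebra.subset_adjoin (Set.mem_singleton s)⟩ :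
      Algebra.adjoin R {s})} = ⊤ := by
  set x : T ⊗[R] Algebra.adjoin R {s} :=
    (1 : T) ⊗ₜ[R] (⟨s, Algebra.subset_adjoin (Set.mem_singleton s)⟩ : Algebra.adjoin R {s})
  rw [eq_top_iff]
  rintro y -
  induction y using TensorProduct.induction_on with
  | zero => exact zero_mem _
  | add a b ha hb => exact add_mem ha hb
  | tmul t a =>
    have h1 : t ⊗ₜ[R] a = t • ((1 : T) ⊗ₜ[R] a) := by
      rw [TensorProduct.smul_tmul', smul_eq_mul, mul_one]
    rw [h1]
    clear h1
    refine Subalgebra.smul_mem _ ?_ t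
    obtain ⟨a, ha⟩ := a
    induction ha using Algebra.adjoin_induction with
    | mem z hz =>
      obtain rfl : z = s := hz
      exact Algebra.subset_adjoin rfl
    | algebraMap r =>
      have e : (⟨algebraMap R S r, Subalgebra.algebraMap_mem _ r⟩ : Algebra.adjoin R {s}) =
          r • (1 : Algebra.adjoin R {s}) := by
        ext
        simp [Algebra.smul_def]
      have e2 : algebraMap R T r ⊗ₜ[R] (1 : Algebra.adjoin R {s}) =
          algebraMap T (T ⊗[R] Algebra.adjoin R {s}) (algebraMap R T r) := by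
        simp [Algebra.TensorProduct.algebraMap_apply]
      rw [e, ← TensorProduct.smul_tmul, ← Algebra.algebraMap_eq_smul_one, e2]
      exact Subalgebra.algebraMap_mem _ _
    | add a b ha hb iha ihb =>
      have : ((1 : T) ⊗ₜ[R] (⟨a + b, add_mem ha hb⟩ : Algebra.adjoin R {s})) =
          (1 : T) ⊗ₜ[R] (⟨a, ha⟩ : Algebra.adjoin R {s}) +
            (1 : T) ⊗ₜ[R] (⟨b, hb⟩ : Algebra.adjoin R {s}) := by
        rw [← TensorProduct.tmul_add]
        rfl
      rw [this]
      exact add_mem iha ihb
    | mul a b ha hb iha ihb =>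
      have : ((1 : T) ⊗ₜ[R] (⟨a * b, mul_mem ha hb⟩ : Algebra.adjoin R {s})) =
          (1 : T) ⊗ₜ[R] (⟨a, ha⟩ : Algebra.adjoin R {s}) *
            (1 : T) ⊗ₜ[R] (⟨b, hb⟩ : Algebra.adjoin R {s}) := by
        rw [Algebra.TensorProduct.tmul_mul_tmul, mul_one]
        rfl
      rw [this]
      exact mul_mem iha ihb

/-- Integrality descends along faithfully flat base change. -/
theorem isIntegral_of_isIntegral_tensorProduct_of_faithfullyFlat
    [Module.FaithfullyFlat R T] [Algebra.IsIntegral T (T ⊗[R] S)] :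
    Algebra.IsIntegral R S := by
  refine ⟨fun s => ?_⟩
  let A : Subalgebra R S := Algebra.adjoin R {s}
  let ι : T ⊗[R] A →ₐ[T] T ⊗[R] S := Algebra.TensorProduct.map (AlgHom.id T T) A.val
  have hι : Function.Injective ι :=
    Module.Flat.lTensor_preserves_injective_linearMap (M := T) A.val.toLinearMap
      Subtype.val_injective
  let x : T ⊗[R] A := (1 : T) ⊗ₜ[R] (⟨s, Algebra.subset_adjoin (Set.mem_singleton s)⟩ : A)
  have hx : IsIntegral T x := by
    rw [← isIntegral_algHom_iff ι hι]
    exact Algebra.IsIntegral.isIntegral _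
  have hfg : Module.Finite T (T ⊗[R] A) := by
    rw [Module.finite_def, ← Algebra.top_toSubmodule, ← adjoin_one_tmul_eq_top T s]
    exact hx.fg_adjoin_singleton
  have hA : Module.Finite R A := Module.Finite.of_finite_tensorProduct_of_faithfullyFlat T
  exact IsIntegral.of_mem_of_fg A (Module.Finite.iff_fg.mp hA) s
    (Algebra.subset_adjoin (Set.mem_singleton s))

theorem isIntegral_codescendsAlong_faithfullyFlat :
    RingHom.CodescendsAlong RingHom.IsIntegral RingHom.FaithfullyFlat := by
  refine .mk _ RingHom.isIntegral_respectsIso fun R S T _ _ _ _ _ h h' ↦ ?_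
  rw [RingHom.faithfullyFlat_algebraMap_iff] at h
  have h1 : Algebra.IsIntegral S (S ⊗[R] T) := ⟨h'⟩
  have := isIntegral_of_isIntegral_tensorProduct_of_faithfullyFlat (R := R) (S := T) S
  exact this.isIntegral

end Groth.Agent.H1
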