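import Mathlib

/-!
# Burnside's theorem and Kolchin's theorem

* `burnside`: a subalgebra of `End_k(W)` (k algebraically closed, W finite-dimensional) acting
  irreducibly on `W` is all of `End_k(W)`.
* `kolchin`: a submonoid of `End_k(W)` consisting of unipotent operators has a nonzero common
  fixed vector.
-/

set_option autoImplicit false
universe u

namespace Groth.Agent.H1.Kolchin

open Module

variable {k : Type*} [Field k]

section Burnside
variable [IsAlgClosed k] {W : Type*} [AddCommGroup W] [Module k W] [FiniteDimensional k W]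

omit [IsAlgClosed k] [FiniteDimensional k W] in
theorem subalgebra_smul_def (B : Subalgebra k (End k W)) (b : B) (w : W) :
    b • w = (b : End k W) w := rfl

instance isScalarTower_sub (B : Subalgebra k (End k W)) : IsScalarTower k B W :=
  ⟨fun c b w => by
    rw [subalgebra_smul_def, subalgebra_smul_def]
    simp⟩

/-- Burnside's theorem. -/
theorem burnside [Nontrivial W] (B : Subalgebra k (End k W))
    (hirr : ∀ W' : Submodule k W, (∀ b ∈ B, W' ≤ W'.comap b) → W' = ⊥ ∨ W' = ⊤) : B = ⊤ := by
  -- `W` is a simple `B`-module
  have hsimple : IsSimpleModule B W := by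
    rw [isSimpleModule_iff]
    refine { exists_pair_ne := ⟨⊥, ⊤, bot_ne_top⟩, eq_bot_or_eq_top := fun N => ?_ }
    have h1 := hirr (N.restrictScalars k) (fun b hb x hx => by
      have : (⟨b, hb⟩ : B) • x ∈ N := N.smul_mem _ hx
      exact this)
    rcases h1 with h1 | h1
    · left; exact (Submodule.restrictScalars_eq_bot_iff k B W).1 h1
    · right; exact (Submodule.restrictScalars_eq_top_iff k B W).1 h1
  have hbij : Function.Bijective (algebraMap k (End B W)) :=
    IsSimpleModule.algebraMap_end_bijective_of_isAlgClosed k
  have hfin : Module.Finite (End B W) W := by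
    obtain ⟨s, hs⟩ := (Module.finite_def.1 (inferInstance : Module.Finite k W))
    refine ⟨⟨s, ?_⟩⟩
    rw [eq_top_iff]
    intro w hwtop
    clear hwtop
    have hw : w ∈ Submodule.span k (s : Set W) := hs ▸ Submodule.mem_top
    induction hw using Submodule.span_induction with
    | mem x hx => exact Submodule.subset_span hx
    | zero => exact zero_mem _
    | add x y _ _ hx hy => exact add_mem hx hy
    | smul c x _ hx =>
      have h2 : c • x = (algebraMap k (End B W) c) • x := by
        rw [Module.End.smul_def, Module.algebraMap_end_apply]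
      rw [h2]
      exact Submodule.smul_mem _ _ hx
  have hdens := Module.Finite.toModuleEnd_moduleEnd_surjective (R := B) (M := W)
  rw [eq_top_iff]
  intro f _
  let f' : End (End B W) W :=
    { toFun := f
      map_add' := fun x y => map_add f x y
      map_smul' := fun φ w => by
        obtain ⟨c, rfl⟩ := hbij.2 φ
        simp only [Module.End.smul_def, Module.algebraMap_end_apply, RingHom.id_apply]
        exact map_smul f c w }
  obtain ⟨b, hb⟩ := hdens f'
  have h3 : (b : End k W) = f := by
    ext w
    have h4 := congrArg (fun g => g w) hb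
    exact h4
  rw [← h3]
  exact b.2

end Burnside

section Trace
variable {W : Type*} [AddCommGroup W] [Module k W] [FiniteDimensional k W]

/-- nondegeneracy of the trace form -/
theorem eq_zero_of_trace_mul_eq_zero (f : End k W)
    (h : ∀ x : End k W, LinearMap.trace k W (f * x) = 0) : f = 0 := by
  by_contra hf
  obtain ⟨v, hv⟩ : ∃ v, f v ≠ 0 := by
    by_contra hcon
    push Not at hcon
    exact hf (LinearMap.ext hcon)
  obtain ⟨φ, hφ⟩ : ∃ φ : Module.Dual k W, φ (f v) ≠ 0 := by
    by_contra hcon
    push Not at hcon
    exact hv ((Module.forall_dual_apply_eq_zero_iff k (f v)).1 hcon)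
  have h1 := h (dualTensorHom k W W (φ ⊗ₜ v))
  have h2 : f * dualTensorHom k W W (φ ⊗ₜ v) = dualTensorHom k W W (φ ⊗ₜ f v) := by
    ext w
    simp [Module.End.mul_apply]
  rw [h2, LinearMap.trace_eq_contract_apply, contractLeft_apply] at h1
  exact hφ h1

theorem trace_of_unipotent (s : End k W) (hs : IsNilpotent (s - 1)) :
    LinearMap.trace k W s = (finrank k W : k) := by
  have h1 : IsNilpotent (LinearMap.trace k W (s - 1)) :=
    LinearMap.isNilpotent_trace_of_isNilpotent hs
  have h2 := h1.eq_zero
  rw [map_sub, LinearMap.trace_one, sub_eq_zero] at h2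
  exact h2

end Trace

section Kolchin
variable [IsAlgClosed k]

/-- Kolchin's theorem for an irreducible module: all elements are the identity. -/
theorem eq_one_of_irreducible {W : Type*} [AddCommGroup W] [Module k W] [FiniteDimensional k W]
    [Nontrivial W] (S : Submonoid (End k W)) (hS : ∀ s ∈ S, IsNilpotent (s - 1))
    (hirr : ∀ W' : Submodule k W, (∀ s ∈ S, W' ≤ W'.comap s) → W' = ⊥ ∨ W' = ⊤)
    (s : End k W) (hs : s ∈ S) : s = 1 := by
  set B : Subalgebra k (End k W) := Algebra.adjoin k (S : Set (End k W)) with hB
  have hBspan : Subalgebra.toSubmodule B = Submodule.span k (S : Set (End k W)) := by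
    rw [hB, Algebra.adjoin_eq_span, Submonoid.closure_eq]
  have hBtop : B = ⊤ := by
    apply burnside
    intro W' hW'
    exact hirr W' (fun s hs => hW' s (Algebra.subset_adjoin hs))
  have htr : ∀ x : End k W, LinearMap.trace k W ((s - 1) * x) = 0 := by
    intro x
    have hx : x ∈ Submodule.span k (S : Set (End k W)) := by
      rw [← hBspan, hBtop]; exact Algebra.mem_top (R := k)
    induction hx using Submodule.span_induction with
    | mem y hy =>
      rw [sub_mul, one_mul, map_sub, trace_of_unipotent _ (hS _ (S.mul_mem hs hy)),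
        trace_of_unipotent _ (hS _ hy), sub_self]
    | zero => simp
    | add y z _ _ hy hz => rw [mul_add, map_add, hy, hz, add_zero]
    | smul c y _ hy => rw [mul_smul_comm, map_smul, hy, smul_zero]
  have := eq_zero_of_trace_mul_eq_zero (s - 1) htr
  exact sub_eq_zero.1 this

/-- Kolchin's theorem. -/
theorem kolchin : ∀ (n : ℕ) (W : Type u) [AddCommGroup W] [Module k W] [FiniteDimensional k W]
    [Nontrivial W], finrank k W = n → ∀ (S : Submonoid (End k W)),
    (∀ s ∈ S, IsNilpotent (s - 1)) → ∃ w : W, w ≠ 0 ∧ ∀ s ∈ S, s w = w := by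
  intro n
  induction n using Nat.strong_induction_on with
  | _ n ih =>
    intro W _ _ _ _ hn S hS
    by_cases hred : ∃ W' : Submodule k W, (∀ s ∈ S, W' ≤ W'.comap s) ∧ W' ≠ ⊥ ∧ W' ≠ ⊤
    · obtain ⟨W', hinv, hbot, htop⟩ := hred
      let S' : Submonoid (End k W') :=
        { carrier := {t | ∃ s ∈ S, ∀ x : W', ((t x : W') : W) = s x}
          one_mem' := ⟨1, S.one_mem, fun x => rfl⟩
          mul_mem' := by
            rintro t₁ t₂ ⟨s₁, hs₁, h₁⟩ ⟨s₂, hs₂, h₂⟩
            refine ⟨s₁ * s₂, S.mul_mem hs₁ hs₂, fun x => ?_⟩
            rw [Module.End.mul_apply, Module.End.mul_apply, h₁, h₂] }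
      have hS' : ∀ t ∈ S', IsNilpotent (t - 1) := by
        rintro t ⟨s, hs, hts⟩
        obtain ⟨m, hm⟩ := hS s hs
        refine ⟨m, ?_⟩
        have key : ∀ (j : ℕ) (x : W'), ((((t - 1) ^ j) x : W') : W) = ((s - 1) ^ j) x := by
          intro j
          induction j with
          | zero => intro x; simp
          | succ j ihj =>
            intro x
            rw [pow_succ, Module.End.mul_apply, ihj, pow_succ, Module.End.mul_apply]
            congr 1
            simp [hts]
        ext x
        rw [key m x, hm]
        simp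
      have hlt : finrank k W' < n := hn ▸ Submodule.finrank_lt htop
      have hnt : Nontrivial W' := (Submodule.nontrivial_iff_ne_bot).2 hbot
      obtain ⟨w', hw', hfix⟩ := ih (finrank k W') hlt W' rfl S' hS'
      refine ⟨(w' : W), fun h => hw' (Subtype.ext h), fun s hs => ?_⟩
      have hmem : s.restrict (hinv s hs) ∈ S' := ⟨s, hs, fun x => rfl⟩
      have := congrArg (fun y : W' => (y : W)) (hfix _ hmem)
      simpa using this
    · push Not at hred
      obtain ⟨w, hw⟩ := exists_ne (0 : W)
      refine ⟨w, hw, fun s hs => ?_⟩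
      have hirr : ∀ W' : Submodule k W, (∀ s ∈ S, W' ≤ W'.comap s) → W' = ⊥ ∨ W' = ⊤ := by
        intro W' hW'
        by_cases hb : W' = ⊥
        · exact Or.inl hb
        · exact Or.inr (hred W' hW' hb)
      rw [eq_one_of_irreducible S hS hirr s hs]
      rfl

end Kolchin

end Groth.Agent.H1.Kolchin
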