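import Mathlib

/-! (CNT) for helper7's S14471 squad: a valuation-like function on a finite-dimensional vector
space takes exactly `dim V` values on the nonzero vectors. -/

set_option autoImplicit false
universe u

namespace Groth.Agent.H1.LSO_CNT

theorem aux {k : Type u} [Field k] : ∀ (n : ℕ) (V : Type u) [AddCommGroup V] [Module k V]
    [Module.Finite k V] (ν : V → ℕ∞)
    (_h0 : ∀ v, ν v = ⊤ ↔ v = 0)
    (_hadd : ∀ v w, min (ν v) (ν w) ≤ ν (v + w))
    (_hsmul : ∀ (a : k) v, a ≠ 0 → ν (a • v) = ν v)
    (_hlead : ∀ v w, ν v = ν w → ν v ≠ ⊤ → ∃ a : k, a ≠ 0 ∧ ν v < ν (v - a • w)),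
    Module.finrank k V = n →
      (ν '' {v | v ≠ 0}).Finite ∧ Set.ncard (ν '' {v | v ≠ 0}) = n := by
  intro n
  induction n with
  | zero =>
    intro V _ _ _ ν h0 hadd hsmul hlead hn
    haveI : Subsingleton V := Module.finrank_zero_iff.1 hn
    have he : {v : V | v ≠ 0} = ∅ := by
      ext v
      simp [Subsingleton.elim v 0]
    rw [he, Set.image_empty]
    exact ⟨Set.finite_empty, Set.ncard_empty _⟩
  | succ n ih =>
    intro V _ _ _ ν h0 hadd hsmul hlead hn
    haveI : Nontrivial V := Module.nontrivial_of_finrank_pos (R := k) (by omega)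
    obtain ⟨v1, hv1⟩ := exists_ne (0 : V)
    set T : Set ℕ∞ := ν '' {v | v ≠ 0} with hT
    have hTne : T.Nonempty := ⟨ν v1, v1, hv1, rfl⟩
    have hmT : sInf T ∈ T := csInf_mem hTne
    obtain ⟨v0, hv0, hm⟩ := hmT
    set m : ℕ∞ := sInf T with hmdef
    have hv0' : v0 ≠ 0 := hv0
    have hmtop : m ≠ ⊤ := by
      rw [← hm]
      exact fun e => hv0' ((h0 v0).1 e)
    have hmin : ∀ v : V, m ≤ ν v := by
      intro v
      by_cases hv : v = 0
      · rw [hv, (h0 0).2 rfl]; exact le_top
      · exact csInf_le (OrderBot.bddBelow T) ⟨v, hv, rfl⟩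
    have hν0 : ν 0 = ⊤ := (h0 0).2 rfl
    -- the submodule of vectors of larger valuation
    let W : Submodule k V :=
      { carrier := {w | m < ν w}
        add_mem' := by
          intro a b ha hb
          exact lt_of_lt_of_le (lt_min ha hb) (hadd a b)
        zero_mem' := by
          show m < ν 0
          rw [hν0]
          exact lt_top_iff_ne_top.2 hmtop
        smul_mem' := by
          intro c x hx
          by_cases hc : c = 0
          · show m < ν (c • x)
            rw [hc, zero_smul, hν0]
            exact lt_top_iff_ne_top.2 hmtop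
          · show m < ν (c • x)
            rw [hsmul c x hc]
            exact hx }
    have hWmem : ∀ w : V, w ∈ W ↔ m < ν w := fun w => Iff.rfl
    -- complement
    have hcompl : IsCompl W (Submodule.span k {v0}) := by
      constructor
      · rw [Submodule.disjoint_def]
        intro x hxW hxs
        obtain ⟨a, rfl⟩ := Submodule.mem_span_singleton.1 hxs
        by_contra hne
        have ha : a ≠ 0 := by
          rintro rfl
          exact hne (zero_smul _ _)
        have h1 : m < ν (a • v0) := hxW
        rw [hsmul a v0 ha, hm] at h1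
        exact lt_irrefl _ h1
      · rw [codisjoint_iff, eq_top_iff]
        intro v _
        by_cases hv : m < ν v
        · exact Submodule.mem_sup_left hv
        · have hveq : ν v = m := le_antisymm (not_lt.1 hv) (hmin v)
          have hvtop : ν v ≠ ⊤ := by rw [hveq]; exact hmtop
          obtain ⟨a, -, ha⟩ := hlead v v0 (hveq.trans hm.symm) hvtop
          have hmemW : v - a • v0 ∈ W := by
            show m < ν (v - a • v0)
            rw [← hveq]; exact ha
          have : v = (v - a • v0) + a • v0 := by abel
          rw [this]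
          exact Submodule.add_mem_sup hmemW
            (Submodule.smul_mem _ _ (Submodule.mem_span_singleton_self v0))
    have hrank : Module.finrank k W = n := by
      have h1 := Submodule.finrank_add_eq_of_isCompl hcompl
      rw [finrank_span_singleton hv0', hn] at h1
      omega
    -- the restricted valuation
    have ihW := ih W (fun w => ν w.1)
      (fun w => by
        rw [h0 w.1]
        exact ⟨fun h => Subtype.ext h, fun h => by rw [h]; rfl⟩)
      (fun v w => hadd v.1 w.1)
      (fun a v ha => hsmul a v.1 ha)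
      (fun v w hvw hv => hlead v.1 w.1 hvw hv)
      hrank
    set T' : Set ℕ∞ := (fun w : W => ν w.1) '' {w | w ≠ 0} with hT'
    have hTT' : T = insert m T' := by
      ext t
      constructor
      · rintro ⟨v, hv, rfl⟩
        by_cases hvm : m < ν v
        · refine Set.mem_insert_of_mem _ ⟨⟨v, hvm⟩, ?_, rfl⟩
          intro e
          exact hv (congrArg Subtype.val e)
        · have hveq : ν v = m := le_antisymm (not_lt.1 hvm) (hmin v)
          rw [hveq]
          exact Set.mem_insert _ _
      · intro ht
        rcases Set.mem_insert_iff.1 ht with rfl | ⟨w, hw, rfl⟩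
        · exact ⟨v0, hv0, hm⟩
        · refine ⟨w.1, ?_, rfl⟩
          intro e
          exact hw (Subtype.ext e)
    have hmT' : m ∉ T' := by
      rintro ⟨w, -, hw⟩
      have h1 : m < ν w.1 := w.2
      have h2 : ν w.1 = m := hw
      rw [h2] at h1
      exact lt_irrefl _ h1
    rw [hTT']
    refine ⟨ihW.1.insert m, ?_⟩
    rw [Set.ncard_insert_of_notMem hmT' ihW.1, ihW.2]

theorem ncard_image_of_valuationLike {k V : Type u} [Field k] [AddCommGroup V] [Module k V]
    [Module.Finite k V] (ν : V → ℕ∞)
    (h0 : ∀ v, ν v = ⊤ ↔ v = 0)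
    (hadd : ∀ v w, min (ν v) (ν w) ≤ ν (v + w))
    (hsmul : ∀ (a : k) v, a ≠ 0 → ν (a • v) = ν v)
    (hlead : ∀ v w, ν v = ν w → ν v ≠ ⊤ → ∃ a : k, a ≠ 0 ∧ ν v < ν (v - a • w)) :
    Set.ncard (ν '' {v | v ≠ 0}) = Module.finrank k V :=
  (aux (Module.finrank k V) V ν h0 hadd hsmul hlead rfl).2

end Groth.Agent.H1.LSO_CNT
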