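import Mathlib

/-! (LEAD) for helper7's S14471 squad: leading coefficients in a DVR whose residue field is the
coefficient field. -/

set_option autoImplicit false
universe u

namespace Groth.Agent.H1.LSO_LEAD

open IsDiscreteValuationRing

theorem exists_lead {k O : Type u} [Field k] [CommRing O] [IsDomain O]
    [IsDiscreteValuationRing O] (ι : k →+* O)
    (hι : Function.Bijective ((IsLocalRing.residue O).comp ι)) (x y : O) (hx : x ≠ 0)
    (h : IsDiscreteValuationRing.addVal O x = IsDiscreteValuationRing.addVal O y) :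
    ∃ a : k, a ≠ 0 ∧
      IsDiscreteValuationRing.addVal O x < IsDiscreteValuationRing.addVal O (x - ι a * y) := by
  have hass : Associated x y := (addVal_eq_iff_associated x y).1 h
  obtain ⟨u, hu⟩ := hass.symm
  -- `y * u = x`
  have hxtop : addVal O x ≠ ⊤ := fun e => hx (addVal_eq_top_iff.1 e)
  obtain ⟨a, ha⟩ := hι.2 (IsLocalRing.residue O (u : O))
  have ha' : IsLocalRing.residue O (ι a) = IsLocalRing.residue O (u : O) := ha
  have hres_u : IsLocalRing.residue O (u : O) ≠ 0 := by
    intro e
    have : (u : O) ∈ IsLocalRing.maximalIdeal O := (IsLocalRing.residue_eq_zero_iff _).1 e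
    exact (IsLocalRing.mem_maximalIdeal _).1 this u.isUnit
  have ha0 : a ≠ 0 := by
    rintro rfl
    rw [map_zero, map_zero] at ha'
    exact hres_u ha'.symm
  refine ⟨a, ha0, ?_⟩
  have hdiff : x - ι a * y = ((u : O) - ι a) * y := by
    rw [← hu]; ring
  have hmem : (u : O) - ι a ∈ IsLocalRing.maximalIdeal O := by
    rw [← IsLocalRing.residue_eq_zero_iff, map_sub, ha', sub_self]
  have hnu : ¬ IsUnit ((u : O) - ι a) := (IsLocalRing.mem_maximalIdeal _).1 hmem
  have hpos : addVal O ((u : O) - ι a) ≠ 0 := fun e => hnu (addVal_eq_zero_iff.1 e)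
  rw [hdiff, addVal_mul, ← h]
  obtain ⟨n, hn⟩ := ENat.ne_top_iff_exists.1 hxtop
  rw [← hn]
  cases hc : addVal O ((u : O) - ι a) with
  | top => simp
  | coe m =>
    rw [hc] at hpos
    have hm : m ≠ 0 := by
      rintro rfl
      exact hpos rfl
    have : (n : ℕ∞) < ((m + n : ℕ) : ℕ∞) := by
      exact_mod_cast (by omega : n < m + n)
    simpa using this

end Groth.Agent.H1.LSO_LEAD
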