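import Mathlib.AlgebraicGeometry.Noetherian
import Mathlib.AlgebraicGeometry.Morphisms.Flat
import Mathlib.AlgebraicGeometry.Morphisms.UniversallyOpen
import Mathlib.AlgebraicGeometry.Morphisms.FinitePresentation
import Mathlib.AlgebraicGeometry.Morphisms.Descent
import Mathlib.RingTheory.Finiteness.Descent
import Mathlib.Topology.Spectral.Prespectral

set_option autoImplicit false
open CategoryTheory CategoryTheory.Limits AlgebraicGeometry Opposite
universe u

namespace Groth.Agent.H1

theorem isNoetherianRing_of_faithfullyFlat (A B : Type*) [CommRing A] [CommRing B] [Algebra A B]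
    [Module.FaithfullyFlat A B] [IsNoetherianRing B] : IsNoetherianRing A := by
  rw [isNoetherianRing_iff_ideal_fg]
  intro I
  exact Ideal.FG.of_FG_map_of_faithfullyFlat (S := B)
    ((isNoetherianRing_iff_ideal_fg B).mp inferInstance _)

theorem isNoetherianRing_Γ_of_flat_of_surjective {W V : Scheme.{u}} (g : W ⟶ V) [IsAffine W]
    [IsAffine V] [Flat g] [Surjective g] [IsLocallyNoetherian W] : IsNoetherianRing Γ(V, ⊤) := by
  have h : g.appTop.hom.FaithfullyFlat :=
    (Flat.flat_and_surjective_iff_faithfullyFlat_of_isAffine g).mp ⟨‹_›, ‹_›⟩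
  algebraize [g.appTop.hom]
  have : IsNoetherianRing Γ(W, ⊤) :=
    IsLocallyNoetherian.component_noetherian ⟨⊤, isAffineOpen_top W⟩
  exact isNoetherianRing_of_faithfullyFlat Γ(V, ⊤) Γ(W, ⊤)

end Groth.Agent.H1
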