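import Mathlib
import Groth.Prelude.Def_CurvBase

/-!
# (G2C) for helper14's S7889 squad: a scheme locally of finite type over a field whose stalks at
closed points are reduced is reduced.  (helper1)
-/

set_option autoImplicit false
universe u
open CategoryTheory CategoryTheory.Limits AlgebraicGeometry

namespace Groth.Agent.H1.NN_G2C

theorem isReduced_of_forall_closed (k : Type u) [Field k] (X : Scheme.{u}) [X.Over (Spec (CommRingCat.of k))]
    [LocallyOfFiniteType (X ↘ Spec (CommRingCat.of k))]
    (h : ∀ x : X, IsClosed ({x} : Set X) → _root_.IsReduced (X.presheaf.stalk x)) : IsReduced X := by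
  haveI : JacobsonSpace X := LocallyOfFiniteType.jacobsonSpace (X ↘ Spec (CommRingCat.of k))
  refine ⟨fun U => ⟨fun s hs => ?_⟩⟩
  apply TopCat.Presheaf.section_ext X.sheaf U s 0
  intro x hx
  change (X.sheaf.presheaf.germ U x hx) s = (X.sheaf.presheaf.germ U x hx) 0
  rw [map_zero]
  change X.presheaf.germ U x hx s = 0
  by_contra hne
  -- the open set where the germ of `s` vanishes
  let O : Set X := {y | ∃ hy : y ∈ U, X.presheaf.germ U y hy s = 0}
  have hO : IsOpen O := by
    rw [isOpen_iff_forall_mem_open]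
    rintro y ⟨hy, hy0⟩
    obtain ⟨V, i, hyV, hres⟩ :=
      X.toRingedSpace.exists_res_eq_zero_of_germ_eq_zero U s ⟨y, hy⟩ hy0
    refine ⟨V, ?_, V.2, hyV⟩
    intro z hz
    refine ⟨i.le hz, ?_⟩
    have := X.presheaf.germ_res i z hz
    have h2 : X.presheaf.germ U z (i.le hz) s = X.presheaf.germ V z hz (X.presheaf.map i.op s) := by
      rw [← this]
      rfl
    rw [h2]
    have h3 : X.presheaf.map i.op s = 0 := hres
    rw [h3, map_zero]
  let Z : Set X := (U : Set X) ∩ Oᶜ
  have hZne : Z.Nonempty := ⟨x, hx, fun ⟨_, h0⟩ => hne h0⟩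
  have hZlc : IsLocallyClosed Z := U.2.isLocallyClosed.inter hO.isClosed_compl.isLocallyClosed
  obtain ⟨y, ⟨hyU, hyO⟩, hycl⟩ := nonempty_inter_closedPoints hZne hZlc
  haveI := h y hycl
  apply hyO
  refine ⟨hyU, ?_⟩
  exact (hs.map (X.presheaf.germ U y hyU).hom).eq_zero

end Groth.Agent.H1.NN_G2C
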