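import Mathlib
import Groth.Agent.H69.DirColim
import Groth.Agent.H15.NilPair.Base
import Groth.Agent.H15.NilPair.Defs
import Groth.Agent.H15.NilPair.Sys

/-! (SDa), (SDc), (SB) for helper15's S18016 squad: surjectivity onto `D'` / `B` of the colimit
system, in the easy cases where a one-variable index with no relations is valid. -/

set_option autoImplicit false
universe u
open CategoryTheory MvPolynomial Limits
open Groth.Agent.H69 Groth.Agent.H15.NilPair
open scoped Classical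

namespace Groth.Agent.H1.NilPair_SDa

variable {R B D D' P : Type u} [CommRing R] [CommRing B] [CommRing D] [CommRing D'] [CommRing P]
  [Algebra R B] [Algebra R D] [Algebra R D'] [Algebra R P]
variable {f : B →ₐ[R] D} {i : D' →ₐ[R] D} {q₁ : P →ₐ[R] B} {q₂ : P →ₐ[R] D'}

/-- the index with the single variable `p` and no relations is valid. -/
theorem valid_single (f : B →ₐ[R] D) (i : D' →ₐ[R] D) (q₁ : P →ₐ[R] B) (q₂ : P →ₐ[R] D') (p : P) :
    Valid f i q₁ q₂ (⟨{p}, ∅, ∅, ∅, ∅⟩ : Raw R P D') := by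
  refine ⟨?_, ?_, ?_, ?_, ?_, ?_, ?_⟩
  · intro t ht; exact absurd ht (Finset.notMem_empty t)
  · intro t ht; exact absurd ht (Finset.notMem_empty t)
  · intro t ht; exact absurd ht (Finset.notMem_empty t)
  · intro x hx
    simp at hx
  · intro _; rfl
  · intro _ _ x hx
    simp at hx
  · intro _ s hs
    exact absurd hs (Finset.notMem_empty s)

theorem surj_D'_of_surj (hf : Function.Surjective f)
    (hPb : ∀ b d', f b = i d' → ∃ p, q₁ p = b ∧ q₂ p = d') :
    ∀ d' : D', ∃ (j : J f i q₁ q₂) (y : FD' j), toD' j y = d' := by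
  intro d'
  obtain ⟨b, hb⟩ := hf (i d')
  obtain ⟨p, -, hp⟩ := hPb b d' hb
  refine ⟨⟨⟨{p}, ∅, ∅, ∅, ∅⟩, valid_single f i q₁ q₂ p⟩,
    mkq _ _ ⟨X (Sum.inl p), X_mem_PS (Finset.inl_mem_disjSum.mpr (Finset.mem_singleton_self p))⟩, ?_⟩
  simp only [toD', toE_mkq, evD', aeval_X, Sum.elim_inl]
  exact hp

theorem surj_B (hq₁ : Function.Surjective q₁) :
    ∀ b : B, ∃ (j : J f i q₁ q₂) (x : FB j), toB j x = b := by
  intro b
  obtain ⟨p, hp⟩ := hq₁ b
  refine ⟨⟨⟨{p}, ∅, ∅, ∅, ∅⟩, valid_single f i q₁ q₂ p⟩,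
    mkq _ _ ⟨X (Sum.inl p), X_mem_PS (Finset.inl_mem_disjSum.mpr (Finset.mem_singleton_self p))⟩, ?_⟩
  simp only [toB, toE_mkq, evB, aeval_X, Sum.elim_inl]
  exact hp

theorem surj_D'_of_not (hf : ¬ Function.Surjective f) (hint : ¬ f.toRingHom.IsIntegral) :
    ∀ d' : D', ∃ (j : J f i q₁ q₂) (y : FD' j), toD' j y = d' := by
  intro d'
  have hval : Valid f i q₁ q₂ (⟨∅, {d'}, ∅, ∅, ∅⟩ : Raw R P D') := by
    refine ⟨?_, ?_, ?_, ?_, ?_, ?_, ?_⟩
    · intro t ht; exact absurd ht (Finset.notMem_empty t)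
    · intro t ht; exact absurd ht (Finset.notMem_empty t)
    · intro t ht; exact absurd ht (Finset.notMem_empty t)
    · intro x hx
      simp at hx
    · intro h; exact absurd h hf
    · intro h; exact absurd h hf
    · intro h; exact absurd h hint
  refine ⟨⟨⟨∅, {d'}, ∅, ∅, ∅⟩, hval⟩,
    mkq _ _ ⟨X (Sum.inr d'), X_mem_PS (Finset.inr_mem_disjSum.mpr (Finset.mem_singleton_self d'))⟩, ?_⟩
  simp only [toD', toE_mkq, evD', aeval_X, Sum.elim_inr, id]

end Groth.Agent.H1.NilPair_SDa
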