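import Mathlib
import Groth.Prelude.Def_QCohCat
import Groth.Prelude.Def_Coh
import Groth.Agent.H22.QCohLimits

/-! (N1a) for helper22's S11129 squad: a monomorphism of `QCoh(Y)` is a monomorphism of
`O_Y`-modules (the kernel is quasi-coherent). -/

set_option autoImplicit false
universe u
open CategoryTheory CategoryTheory.Limits AlgebraicGeometry TopologicalSpace Opposite

namespace Groth.Agent.H1.NoethObj_N1a

theorem mono_hom_of_mono {Y : Scheme.{u}} {A B : QCohCat.QCoh Y} (f : A ⟶ B) [Mono f] :
    Mono f.hom := by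
  haveI hA : A.obj.IsQuasicoherent := A.property
  haveI hB : B.obj.IsQuasicoherent := B.property
  have hK : (kernel f.hom).IsQuasicoherent :=
    Groth.Agent.H22.QCohLimits.isQuasicoherent_kernel f.hom
  let K : QCohCat.QCoh Y := ⟨kernel f.hom, hK⟩
  let k : K ⟶ A := ObjectProperty.homMk (kernel.ι f.hom)
  have hk : k ≫ f = (0 : K ⟶ A) ≫ f := by
    apply ObjectProperty.hom_ext
    rw [ObjectProperty.FullSubcategory.comp_hom, ObjectProperty.FullSubcategory.comp_hom]
    show kernel.ι f.hom ≫ f.hom = (0 : K ⟶ A).hom ≫ f.hom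
    rw [kernel.condition]
    have h0 : (0 : K ⟶ A).hom = 0 := rfl
    rw [h0, zero_comp]
  have hk0 : k = 0 := (cancel_mono f).1 hk
  have hι : kernel.ι f.hom = 0 := by
    have := congrArg (fun g : K ⟶ A => g.hom) hk0
    exact this
  exact Preadditive.mono_of_kernel_zero hι

end Groth.Agent.H1.NoethObj_N1a
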