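import Mathlib

/-! (G3) for helper17's S3362 squad: adding the closed point raises the dimension by at most one. -/

set_option autoImplicit false
universe u

namespace Groth.Agent.H1.PS_G3

open Topology TopologicalSpace

theorem dim_le_dim_add_one {U T : Type u} [TopologicalSpace U] [TopologicalSpace T] (ι : U → T)
    (hι : Topology.IsOpenEmbedding ι) (pt : T) (hpt : Set.range ι = {pt}ᶜ)
    (hloc : ∀ C : Set T, IsClosed C → C.Nonempty → pt ∈ C)
    (Z : Set U) (hZ : IsClosed Z) (hne : Z.Nonempty) :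
    topologicalKrullDim ↥(ι '' Z ∪ {pt}) ≤ topologicalKrullDim ↥Z + 1 := by
  classical
  have hptcl : IsClosed ({pt} : Set T) := by
    rw [← isOpen_compl_iff, ← hpt]; exact hι.isOpen_range
  have hYcl : IsClosed (ι '' Z ∪ {pt}) := by
    obtain ⟨C, hC, rfl⟩ := hι.isInducing.isClosed_iff.1 hZ
    have : ι '' (ι ⁻¹' C) ∪ {pt} = C ∪ {pt} := by
      rw [Set.image_preimage_eq_inter_range, hpt]
      ext y
      simp only [Set.mem_union, Set.mem_inter_iff, Set.mem_compl_iff, Set.mem_singleton_iff]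
      tauto
    rw [this]; exact hC.union hptcl
  have hptY : pt ∈ ι '' Z ∪ {pt} := Or.inr rfl
  have hptrange : pt ∉ Set.range ι := by rw [hpt]; simp
  have hmaps : ∀ z : ↥Z, (ι ∘ Subtype.val) z ∈ ι '' Z ∪ {pt} :=
    fun z => Or.inl (Set.mem_image_of_mem ι z.2)
  obtain ⟨j, hjdef⟩ : ∃ j : ↥Z → ↥(ι '' Z ∪ {pt}), j = Set.codRestrict (ι ∘ Subtype.val) _ hmaps :=
    ⟨_, rfl⟩
  have hjval : ∀ z : ↥Z, (j z).1 = ι z.1 := by intro z; rw [hjdef]; rfl
  have hjE : IsEmbedding j := by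
    rw [hjdef]
    exact (hι.isEmbedding.comp IsEmbedding.subtypeVal).codRestrict _ hmaps
  have hrange : Set.range j = Subtype.val ⁻¹' (Set.range ι) := by
    ext y
    constructor
    · rintro ⟨z, rfl⟩
      exact ⟨z.1, (hjval z).symm⟩
    · intro hy
      rcases y.2 with ⟨u, hu, hyu⟩ | hyp
      · exact ⟨⟨u, hu⟩, Subtype.ext ((hjval _).trans hyu)⟩
      · exfalso
        apply hptrange
        have : y.1 ∈ Set.range ι := hy
        rwa [show y.1 = pt from hyp] at this
  have hjemb : IsOpenEmbedding j :=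
    ⟨hjE, by rw [hrange]; exact hι.isOpen_range.preimage continuous_subtype_val⟩
  have hptW : ∀ W : IrreducibleCloseds ↥(ι '' Z ∪ {pt}),
      (⟨pt, hptY⟩ : ↥(ι '' Z ∪ {pt})) ∈ (W : Set ↥(ι '' Z ∪ {pt})) := by
    intro W
    have h1 : IsClosed (Subtype.val '' (W : Set ↥(ι '' Z ∪ {pt}))) :=
      (hYcl.isClosedEmbedding_subtypeVal).isClosedMap _ W.isClosed'
    have h2 : (Subtype.val '' (W : Set ↥(ι '' Z ∪ {pt}))).Nonempty :=
      W.isIrreducible'.nonempty.image _
    obtain ⟨y, hy, hyp⟩ := hloc _ h1 h2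
    have : y = ⟨pt, hptY⟩ := Subtype.ext hyp
    rw [← this]; exact hy
  have hY_cases : ∀ y : ↥(ι '' Z ∪ {pt}), y = ⟨pt, hptY⟩ ∨ ∃ z, j z = y := by
    rintro ⟨y, hy | hy⟩
    · obtain ⟨u, hu, rfl⟩ := hy
      exact Or.inr ⟨⟨u, hu⟩, Subtype.ext (hjval _)⟩
    · exact Or.inl (Subtype.ext hy)
  have hdet : ∀ W W' : IrreducibleCloseds ↥(ι '' Z ∪ {pt}),
      j ⁻¹' (W : Set ↥(ι '' Z ∪ {pt})) = j ⁻¹' (W' : Set ↥(ι '' Z ∪ {pt})) → W = W' := by
    intro W W' h
    apply SetLike.coe_injective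
    ext y
    rcases hY_cases y with rfl | ⟨z, rfl⟩
    · exact ⟨fun _ => hptW W', fun _ => hptW W⟩
    · exact Set.ext_iff.1 h z
  let f : IrreducibleCloseds ↥(ι '' Z ∪ {pt}) → WithBot (IrreducibleCloseds ↥Z) := fun W =>
    if h : (j ⁻¹' (W : Set ↥(ι '' Z ∪ {pt}))).Nonempty then
      ((⟨j ⁻¹' (W : Set ↥(ι '' Z ∪ {pt})),
        ⟨h, W.isIrreducible'.isPreirreducible.preimage hjemb⟩,
        W.isClosed'.preimage hjemb.continuous⟩ : IrreducibleCloseds ↥Z) : WithBot _)
    else ⊥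
  have hfmono : Monotone f := by
    intro W W' hWW'
    have hsub : j ⁻¹' (W : Set ↥(ι '' Z ∪ {pt})) ⊆ j ⁻¹' (W' : Set ↥(ι '' Z ∪ {pt})) :=
      Set.preimage_mono (SetLike.coe_subset_coe.2 hWW')
    simp only [f]
    split_ifs with h1 h2
    · exact WithBot.coe_le_coe.2 (fun x hx => hsub hx)
    · exact absurd (h1.mono hsub) h2
    · exact bot_le
    · exact bot_le
  have hfinj : Function.Injective f := by
    intro W W' hWW'
    apply hdet
    simp only [f] at hWW'
    split_ifs at hWW' with h1 h2 h2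
    · have := WithBot.coe_injective hWW'
      exact congrArg (fun V : IrreducibleCloseds ↥Z => (V : Set ↥Z)) this
    · exact absurd hWW' WithBot.coe_ne_bot
    · exact absurd hWW' WithBot.bot_ne_coe
    · rw [Set.not_nonempty_iff_eq_empty.1 h1, Set.not_nonempty_iff_eq_empty.1 h2]
  have hstrict : StrictMono f := hfmono.strictMono_of_injective hfinj
  haveI : Nonempty (IrreducibleCloseds ↥Z) := by
    obtain ⟨z, hz⟩ := hne
    exact ⟨⟨closure {⟨z, hz⟩}, isIrreducible_singleton.closure, isClosed_closure⟩⟩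
  calc topologicalKrullDim ↥(ι '' Z ∪ {pt})
      ≤ Order.krullDim (WithBot (IrreducibleCloseds ↥Z)) :=
        Order.krullDim_le_of_strictMono f hstrict
    _ = topologicalKrullDim ↥Z + 1 := Order.krullDim_withBot

end Groth.Agent.H1.PS_G3
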