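import Mathlib.RingTheory.Finiteness.Descent
import Mathlib.RingTheory.QuasiFinite.Basic
import Mathlib.RingTheory.RingHom.QuasiFinite
import Mathlib.RingTheory.RingHom.FaithfullyFlat
import Mathlib.RingTheory.Flat.FaithfullyFlat.Algebra

set_option autoImplicit false
universe u
open TensorProduct

namespace Groth.Agent.H1

/-- Quasi-finiteness descends along faithfully flat base change. -/
theorem quasiFinite_of_quasiFinite_tensorProduct_of_faithfullyFlat
    {R S : Type*} [CommRing R] [CommRing S] [Algebra R S]
    (A : Type*) [CommRing A] [Algebra R A]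
    [Module.FaithfullyFlat R A] [Algebra.QuasiFinite A (A ⊗[R] S)] :
    Algebra.QuasiFinite R S := by
  refine ⟨fun p hp ↦ ?_⟩
  obtain ⟨P, hP, hPp⟩ := Ideal.exists_isPrime_liesOver_of_faithfullyFlat (B := A) p
  obtain rfl : p = P.under R := hPp.over
  let := Localization.AtPrime.algebraOfLiesOver (P.under R) P
  let e : P.Fiber (A ⊗[R] S) ≃ₐ[P.ResidueField]
      P.ResidueField ⊗[(P.under R).ResidueField] ((P.under R).Fiber S) :=
    (Algebra.TensorProduct.cancelBaseChange _ _ _ _ _).trans
      (Algebra.TensorProduct.cancelBaseChange _ _ _ _ _).symm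
  have h1 : Module.Finite P.ResidueField (P.Fiber (A ⊗[R] S)) := inferInstance
  have h2 : Module.Finite P.ResidueField
      (P.ResidueField ⊗[(P.under R).ResidueField] ((P.under R).Fiber S)) :=
    .of_surjective e.toLinearMap e.surjective
  exact Module.Finite.of_finite_tensorProduct_of_faithfullyFlat P.ResidueField

theorem quasiFinite_codescendsAlong_faithfullyFlat :
    RingHom.CodescendsAlong RingHom.QuasiFinite RingHom.FaithfullyFlat := by
  refine .mk _ RingHom.QuasiFinite.respectsIso fun R S T _ _ _ _ _ h h' ↦ ?_
  rw [RingHom.faithfullyFlat_algebraMap_iff] at h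
  rw [RingHom.quasiFinite_algebraMap] at h' ⊢
  exact quasiFinite_of_quasiFinite_tensorProduct_of_faithfullyFlat S

end Groth.Agent.H1
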