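import Mathlib
import Groth.Prelude
import Groth.Agent.H25.SmoothStalk

/-! (NORM) for helper85's S14315 squad: local rings of a smooth scheme over a field are
integrally closed domains. -/

set_option autoImplicit false
universe u
open CategoryTheory CategoryTheory.Limits AlgebraicGeometry

namespace Groth.Agent.H1.SurfBC_NORM

/-- the stalks of `Spec k`, `k` a field, are fields (isomorphic to `k`). -/
theorem stalk_spec_field_bijective (k : Type u) [Field k]
    (p : Spec (CommRingCat.of k)) :
    ∃ e : k ≃+* (Spec (CommRingCat.of k)).presheaf.stalk p, True := by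
  letI alg : Algebra k ((Spec (CommRingCat.of k)).presheaf.stalk p) :=
    StructureSheaf.stalkAlgebra k p
  haveI : IsLocalization.AtPrime ((Spec (CommRingCat.of k)).presheaf.stalk p) p.asIdeal :=
    StructureSheaf.IsLocalization.to_stalk k p
  have hle : p.asIdeal.primeCompl ≤ IsUnit.submonoid k := by
    intro a ha
    have ha0 : a ≠ 0 := by
      rintro rfl
      exact ha (Ideal.zero_mem _)
    exact ha0.isUnit
  exact ⟨(IsLocalization.atUnits k p.asIdeal.primeCompl
    (S := (Spec (CommRingCat.of k)).presheaf.stalk p) hle).toRingEquiv, trivial⟩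

theorem normal_stalk_of_smooth_field (k : Type u) [Field k] {C : Scheme.{u}}
    (g : C ⟶ Spec (CommRingCat.of k)) [Smooth g] (y : C) :
    IsDomain (C.presheaf.stalk y) ∧ IsIntegrallyClosed (C.presheaf.stalk y) := by
  have hy : y ∈ g.smoothLocus := by
    rw [Scheme.Hom.smoothLocus_eq_top_iff.2 inferInstance]
    trivial
  refine (Groth.Agent.H25.SmoothStalk.reduced_normal_iff_of_smoothAt g y hy).2.2 ?_
  obtain ⟨e, -⟩ := stalk_spec_field_bijective k (g y)
  haveI hdom : IsDomain ((Spec (CommRingCat.of k)).presheaf.stalk (g y)) :=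
    MulEquiv.isDomain k e.symm.toMulEquiv
  refine ⟨hdom, ?_⟩
  haveI : IsIntegrallyClosed k := inferInstance
  exact IsIntegrallyClosed.of_equiv e

end Groth.Agent.H1.SurfBC_NORM
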