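import Groth.Agent.H43.TQClassify
import Groth.Agent.H33.TQ_QU
import Groth.Prelude.Def_AlgGrp

/-! (T4-KGRP) for helper43's S16612 squad: kernels of homomorphisms of group objects of `Over S`. -/

set_option autoImplicit false
universe u
open CategoryTheory Limits MonoidalCategory CartesianMonoidalCategory MonObj GrpObj AlgebraicGeometry
open Groth.Agent.H43.TQ

namespace Groth.Agent.H1.T4

theorem exists_kernel_grp {S : Scheme.{u}} {G Q : Over S} [GrpObj G] [GrpObj Q] (q : G ⟶ Q)
    [IsMonHom q] :
    ∃ (N : Over S) (_ : GrpObj N) (i : N ⟶ G), IsMonHom i ∧ Mono i ∧ AlgGrp.IsKernel i q := by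
  let qG : Grp.mk G ⟶ Grp.mk Q := Grp.homMk q
  let u : Grp.trivial (Over S) ⟶ Grp.mk Q := default
  have hu : u.hom.hom = η[Q] := by
    have h := IsMonHom.one_hom (f := u.hom.hom)
    exact (Category.id_comp u.hom.hom).symm.trans h
  have sq := IsPullback.of_hasPullback qG u
  have sq' := sq.map (Grp.forget _)
  have hk : IsPullback (pullback.fst qG u).hom.hom (toUnit (pullback qG u).X) q η[Q] := by
    refine sq'.of_iso (Iso.refl _) (Iso.refl _) (Iso.refl _) (Iso.refl _) ?_ ?_ ?_ ?_
    · exact (Category.comp_id _).trans (Category.id_comp _).symm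
    · exact (Category.comp_id _).trans ((toUnit_unique _ _).trans (Category.id_comp _).symm)
    · exact (Category.comp_id _).trans (Category.id_comp _).symm
    · exact (Category.comp_id _).trans (hu.trans (Category.id_comp _).symm)
  refine ⟨(pullback qG u).X, (pullback qG u).grp, (pullback.fst qG u).hom.hom, inferInstance,
    ?_, hk⟩
  exact ⟨fun a b hab => hk.hom_ext hab (toUnit_unique _ _)⟩

end Groth.Agent.H1.T4
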