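import Groth.Agent.H43.TQClassify
import Groth.Agent.H33.TQ_QU
import Groth.Prelude.Def_AlgGrp

/-! (T4-MONO) and (T4-DESC) for helper43's S16612 squad. -/

set_option autoImplicit false
universe u
open CategoryTheory Limits MonoidalCategory CartesianMonoidalCategory MonObj GrpObj AlgebraicGeometry
open Groth.Agent.H43.TQ

namespace Groth.Agent.H1.T4

/-- the action map `G ⊗ H ⟶ G` in terms of the group structure on hom-sets. -/
theorem act_eq {S : Scheme.{u}} {G H : Over S} [GrpObj G] [GrpObj H] (i : H ⟶ G) :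
    (G ◁ i) ≫ μ[G] = fst G H * (snd G H ≫ i) := by
  rw [Hom.mul_def]
  congr 1

theorem comp_eq_one_of_isQuotient {S : Scheme.{u}} {G H Q : Over S} [GrpObj G] [GrpObj H]
    [GrpObj Q] (i : H ⟶ G) (q : G ⟶ Q) [IsMonHom q] (hq : RedSub.IsQuotient i q) :
    i ≫ q = 1 := by
  have w := hq.2.2.2.w
  rw [act_eq, MonObj.mul_comp _ _ q] at w
  have h1 : (fst G H ≫ q) * 1 = (fst G H ≫ q) * ((snd G H ≫ i) ≫ q) := by
    rw [_root_.mul_one]; exact w
  have h2 : (1 : G ⊗ H ⟶ Q) = (snd G H ≫ i) ≫ q := mul_left_cancel h1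
  have h3 := congrArg (fun z => lift (1 : H ⟶ G) (𝟙 H) ≫ z) h2
  simp only [MonObj.comp_one, Category.assoc, lift_snd_assoc, Category.id_comp] at h3
  exact h3.symm

theorem mono_desc {S : Scheme.{u}} {G H Q Z : Over S} [GrpObj G] [GrpObj H] [GrpObj Q] [GrpObj Z]
    (i : H ⟶ G) [IsMonHom i] (q : G ⟶ Q) [IsMonHom q] (hq : RedSub.IsQuotient i q) (m : G ⟶ Z)
    [IsMonHom m] (hk : AlgGrp.IsKernel i m) (j₃ : Q ⟶ Z) [IsMonHom j₃] (h : q ≫ j₃ = m) :
    Mono j₃ := by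
  have hiq : i ≫ q = 1 := comp_eq_one_of_isQuotient i q hq
  have key : ∀ (X : Over S) (x : X ⟶ Q), x ≫ j₃ = 1 → x = 1 := by
    intro X x hx
    have sq := IsPullback.of_hasPullback x q
    have sqL := sq.map (Over.forget S)
    have hS : Surjective (pullback.fst x q).left :=
      MorphismProperty.of_isPullback (P := @Surjective) sqL.flip hq.1
    have hF : Flat (pullback.fst x q).left :=
      MorphismProperty.of_isPullback (P := @Flat) sqL.flip hq.2.1
    have hP : LocallyOfFinitePresentation (pullback.fst x q).left :=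
      MorphismProperty.of_isPullback (P := @LocallyOfFinitePresentation) sqL.flip hq.2.2.1
    haveI : Epi (pullback.fst x q) := Groth.Agent.H33.TQ_QU.epi_of_fppf _ hS hF hP
    have hxt : pullback.snd x q ≫ m = toUnit _ ≫ η[Z] := by
      rw [← h, ← Category.assoc, ← pullback.condition, Category.assoc, hx, MonObj.comp_one]
      rfl
    have hkl : hk.lift (pullback.snd x q) (toUnit _) hxt ≫ i = pullback.snd x q :=
      hk.lift_fst _ _ _
    rw [← cancel_epi (pullback.fst x q), pullback.condition, ← hkl, Category.assoc, hiq,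
      MonObj.comp_one, MonObj.comp_one]
  refine ⟨fun {X} a b hab => ?_⟩
  have h1 : (a * b⁻¹) ≫ j₃ = 1 := by
    rw [MonObj.mul_comp _ _ j₃, GrpObj.inv_comp, hab, _root_.mul_inv_cancel]
  exact mul_inv_eq_one.1 (key X _ h1)

theorem exists_desc_hom {S : Scheme.{u}} {G H Q Z : Over S} [GrpObj G] [GrpObj H] [GrpObj Q]
    [GrpObj Z] (i : H ⟶ G) (q : G ⟶ Q) [IsMonHom q] (hq : RedSub.IsQuotient i q) (m : G ⟶ Z)
    [IsMonHom m] (hm : i ≫ m = 1) : ∃ j₃ : Q ⟶ Z, IsMonHom j₃ ∧ q ≫ j₃ = m := by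
  obtain ⟨hs, hf, hp, sq⟩ := hq
  haveI := hs
  haveI := hf
  haveI := hp
  haveI : EffectiveEpi q.left := inferInstance
  haveI : Epi q.left := inferInstance
  have sqL : IsPullback (fst G H).left ((G ◁ i) ≫ μ[G]).left q.left q.left :=
    sq.map (Over.forget S)
  have w0 : fst G H ≫ m = ((G ◁ i) ≫ μ[G]) ≫ m := by
    rw [act_eq, MonObj.mul_comp _ _ m, Category.assoc, hm, MonObj.comp_one, _root_.mul_one]
  have w' : (fst G H).left ≫ m.left = ((G ◁ i) ≫ μ[G]).left ≫ m.left :=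
    congrArg (fun f => f.left) w0
  let e₁ : Q.left ⟶ Z.left := EffectiveEpi.desc q.left m.left (by
    intro W g₁ g₂ h
    calc g₁ ≫ m.left = (sqL.lift g₁ g₂ h ≫ (fst G H).left) ≫ m.left := by
          rw [sqL.lift_fst]
      _ = sqL.lift g₁ g₂ h ≫ ((G ◁ i) ≫ μ[G]).left ≫ m.left := by
          rw [Category.assoc, w']
      _ = g₂ ≫ m.left := by rw [← Category.assoc, sqL.lift_snd])
  have he₁ : q.left ≫ e₁ = m.left := EffectiveEpi.fac _ _ _
  have hw : e₁ ≫ Z.hom = Q.hom := by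
    rw [← cancel_epi q.left, ← Category.assoc, he₁, Over.w, Over.w]
  obtain ⟨e, he⟩ : ∃ e : Q ⟶ Z, q ≫ e = m := ⟨Over.homMk e₁ hw, by ext; exact he₁⟩
  haveI : Epi q := Groth.Agent.H33.TQ_QU.epi_of_fppf q hs hf hp
  haveI : Epi (q ⊗ₘ q) := Groth.Agent.H33.TQ_QU.epi_tensorHom q hs hf hp
  refine ⟨e, ?_, he⟩
  constructor
  · show η[Q] ≫ e = η[Z]
    rw [← IsMonHom.one_hom q, Category.assoc, he, IsMonHom.one_hom m]
  · show μ[Q] ≫ e = (e ⊗ₘ e) ≫ μ[Z]
    rw [← cancel_epi (q ⊗ₘ q)]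
    calc (q ⊗ₘ q) ≫ μ[Q] ≫ e = μ[G] ≫ q ≫ e := by
          rw [← Category.assoc, ← IsMonHom.mul_hom q, Category.assoc]
      _ = μ[G] ≫ m := by rw [he]
      _ = (m ⊗ₘ m) ≫ μ[Z] := IsMonHom.mul_hom m
      _ = ((q ≫ e) ⊗ₘ (q ≫ e)) ≫ μ[Z] := by rw [he]
      _ = (q ⊗ₘ q) ≫ (e ⊗ₘ e) ≫ μ[Z] := by
          rw [← tensorHom_comp_tensorHom, Category.assoc]

end Groth.Agent.H1.T4
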