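import Mathlib
import Groth.Agent.H74.WK.Defs

/-! (SQ2) for helper74's S14485 squad: the diagonal of a base change is the base change of the
diagonal. Pure category theory (direct universal-property proof). -/

set_option autoImplicit false
universe u
open CategoryTheory CategoryTheory.Limits AlgebraicGeometry

namespace Groth.Agent.H1.WK_SQ2

open Groth.Agent.H74.WK

theorem pi_fst {X S S' : Scheme.{u}} (f : X ⟶ S) (g : S' ⟶ S) :
    pi f g ≫ pullback.fst f f =
      pullback.fst (pullback.snd f g) (pullback.snd f g) ≫ pullback.fst f g := by
  unfold H74.WK.pi pullback.map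
  exact pullback.lift_fst _ _ _

theorem pi_snd {X S S' : Scheme.{u}} (f : X ⟶ S) (g : S' ⟶ S) :
    pi f g ≫ pullback.snd f f =
      pullback.snd (pullback.snd f g) (pullback.snd f g) ≫ pullback.fst f g := by
  unfold H74.WK.pi pullback.map
  exact pullback.lift_snd _ _ _

theorem isPullback_diagonal {X S S' : Scheme.{u}} (f : X ⟶ S) (g : S' ⟶ S) :
    IsPullback (pullback.diagonal (pullback.snd f g)) (pullback.fst f g)
      (pi f g) (pullback.diagonal f) := by
  have hw : pullback.diagonal (pullback.snd f g) ≫ pi f g =
      pullback.fst f g ≫ pullback.diagonal f := by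
    apply pullback.hom_ext
    · rw [Category.assoc, pi_fst, pullback.diagonal_fst_assoc, Category.assoc,
        pullback.diagonal_fst, Category.comp_id]
    · rw [Category.assoc, pi_snd, pullback.diagonal_snd_assoc, Category.assoc,
        pullback.diagonal_snd, Category.comp_id]
  refine ⟨⟨hw⟩, ⟨PullbackCone.IsLimit.mk _ (fun c => c.fst ≫ pullback.fst _ _) ?_ ?_ ?_⟩⟩
  · intro c
    -- key: c.fst ≫ fst = c.fst ≫ snd
    have hb1 : c.fst ≫ pullback.fst _ _ ≫ pullback.fst f g = c.snd := by
      have := congr($(c.condition) ≫ pullback.fst f f)
      simpa [pi_fst] using this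
    have hb2 : c.fst ≫ pullback.snd _ _ ≫ pullback.fst f g = c.snd := by
      have := congr($(c.condition) ≫ pullback.snd f f)
      simpa [pi_snd] using this
    have hfs : c.fst ≫ pullback.fst (pullback.snd f g) (pullback.snd f g) =
        c.fst ≫ pullback.snd (pullback.snd f g) (pullback.snd f g) := by
      apply pullback.hom_ext
      · rw [Category.assoc, Category.assoc, hb1, hb2]
      · rw [Category.assoc, Category.assoc, pullback.condition]
    apply pullback.hom_ext
    · rw [Category.assoc, pullback.diagonal_fst, Category.comp_id]
    · rw [Category.assoc, pullback.diagonal_snd, Category.comp_id, hfs]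
  · intro c
    have := congr($(c.condition) ≫ pullback.fst f f)
    simpa [pi_fst] using this
  · intro c m hm1 hm2
    rw [← hm1, Category.assoc, pullback.diagonal_fst, Category.comp_id]

end Groth.Agent.H1.WK_SQ2
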