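import Mathlib
import Groth.Agent.H74.WK.Defs
import Groth.Agent.H1.WK_SQ2

/-! (SQ1) for helper74's S14485 squad (insurance copy): `X' ×_{S'} X'` is the base change of
`X ×_S X` along `g`. Pure category theory (direct universal-property proof). -/

set_option autoImplicit false
universe u
open CategoryTheory CategoryTheory.Limits AlgebraicGeometry

namespace Groth.Agent.H1.WK_SQ1

open Groth.Agent.H1.WK_SQ2

theorem isPullback_pi {X S S' : Scheme.{u}} (f : X ⟶ S) (g : S' ⟶ S) :
    IsPullback (H74.WK.pi f g)
      (pullback.fst (pullback.snd f g) (pullback.snd f g) ≫ pullback.snd f g)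
      (pullback.fst f f ≫ f) g := by
  have hw : H74.WK.pi f g ≫ pullback.fst f f ≫ f =
      (pullback.fst (pullback.snd f g) (pullback.snd f g) ≫ pullback.snd f g) ≫ g := by
    rw [← Category.assoc, pi_fst, Category.assoc, Category.assoc, pullback.condition]
  refine ⟨⟨hw⟩, ⟨PullbackCone.IsLimit.mk _ (fun c =>
    pullback.lift
      (pullback.lift (c.fst ≫ pullback.fst f f) c.snd
        (by rw [Category.assoc]; exact c.condition))
      (pullback.lift (c.fst ≫ pullback.snd f f) c.snd
        (by rw [Category.assoc, ← pullback.condition]; exact c.condition))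
      (by rw [pullback.lift_snd, pullback.lift_snd])) ?_ ?_ ?_⟩⟩
  · intro c
    apply pullback.hom_ext
    · rw [Category.assoc, pi_fst, pullback.lift_fst_assoc, pullback.lift_fst]
    · rw [Category.assoc, pi_snd, pullback.lift_snd_assoc, pullback.lift_fst]
  · intro c
    rw [pullback.lift_fst_assoc, pullback.lift_snd]
  · intro c m hm1 hm2
    apply pullback.hom_ext
    · rw [pullback.lift_fst]
      apply pullback.hom_ext
      · rw [pullback.lift_fst, ← hm1, Category.assoc, Category.assoc, pi_fst]
      · rw [pullback.lift_snd, ← hm2, Category.assoc]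
    · rw [pullback.lift_snd]
      apply pullback.hom_ext
      · rw [pullback.lift_fst, ← hm1, Category.assoc, Category.assoc, pi_snd]
      · rw [pullback.lift_snd, ← hm2, Category.assoc]
        exact congrArg (m ≫ ·) (pullback.condition (f := pullback.snd f g) (g := pullback.snd f g)).symm

end Groth.Agent.H1.WK_SQ1
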